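import Mathlib
import Cfsg.Agent.Lib.Chars.Completeness
import Cfsg.Agent.Lib.Chars.Ops

/-!
The group of order 72: two copies of the symmetric group of degree three and their exchange.
Four generalized characters vanishing off the elements of order three and six.
-/

set_option autoImplicit false

namespace Cfsg.Agent.Lib.Higman9

open Cfsg Cfsg.Agent.Lib

/-- The group of order six. -/
abbrev D3 : Type := DihedralGroup 3

/-- The action on three letters. -/
def pt3 : D3 → ZMod 3 → ZMod 3
  | .r i, x => x + i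
  | .sr i, x => -(x + i)

theorem pt3_mul : ∀ (a b : D3) (x : ZMod 3), pt3 (a * b) x = pt3 a (pt3 b x) := by decide +kernel

theorem pt3_one : ∀ x : ZMod 3, pt3 1 x = x := by decide +kernel

/-- Whether an element is a reflection. -/
def odd3 : D3 → Bool
  | .r _ => false
  | .sr _ => true

theorem odd3_mul : ∀ a b : D3, odd3 (a * b) = (odd3 a ^^ odd3 b) := by decide +kernel

/-- The elements of the group of order 72. -/
@[ext] structure W where
  /-- The first component. -/
  a : D3
  /-- The second component. -/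
  b : D3
  /-- The exchange. -/
  s : Bool

instance : DecidableEq W := fun x y =>
  decidable_of_iff (x.a = y.a ∧ x.b = y.b ∧ x.s = y.s)
    ⟨fun h => W.ext h.1 h.2.1 h.2.2, fun h => by subst h; exact ⟨rfl, rfl, rfl⟩⟩

instance : Fintype W :=
  Fintype.ofEquiv (D3 × D3 × Bool)
    ⟨fun p => ⟨p.1, p.2.1, p.2.2⟩, fun w => (w.a, w.b, w.s), fun _ => rfl, fun _ => rfl⟩

instance : Mul W :=
  ⟨fun x y => ⟨x.a * (if x.s then y.b else y.a), x.b * (if x.s then y.a else y.b), x.s ^^ y.s⟩⟩

instance : One W := ⟨⟨1, 1, false⟩⟩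

instance : Inv W :=
  ⟨fun x => ⟨if x.s then x.b⁻¹ else x.a⁻¹, if x.s then x.a⁻¹ else x.b⁻¹, x.s⟩⟩

theorem mul_def (x y : W) : x * y =
    ⟨x.a * (if x.s then y.b else y.a), x.b * (if x.s then y.a else y.b), x.s ^^ y.s⟩ := rfl

theorem one_def : (1 : W) = ⟨1, 1, false⟩ := rfl

instance : Group W :=
  Group.ofLeftAxioms
    (fun x y z => by
      obtain ⟨a, b, s⟩ := x
      obtain ⟨a', b', s'⟩ := y
      obtain ⟨a'', b'', s''⟩ := z
      cases s <;> cases s' <;> simp [mul_def, mul_assoc])
    (fun x => by obtain ⟨a, b, s⟩ := x; simp [mul_def, one_def])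
    (by decide +kernel)

/-- The component acting on a block. -/
def comp (w : W) (i : Bool) : D3 := if i then w.b else w.a

theorem comp_mul (x y : W) (i : Bool) :
    comp (x * y) i = comp x i * comp y (x.s ^^ i) := by
  obtain ⟨a, b, s⟩ := x
  cases i <;> cases s <;> simp [comp, mul_def]

theorem s_mul (x y : W) : (x * y).s = (x.s ^^ y.s) := rfl

/-- The six points. -/
def Six : Type := Bool × ZMod 3

/-- The four signed blocks. -/
def Four : Type := Bool × Bool

/-- The nine points. -/
def Nine : Type := ZMod 3 × ZMod 3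

instance : Fintype Six := inferInstanceAs (Fintype (Bool × ZMod 3))
instance : DecidableEq Six := inferInstanceAs (DecidableEq (Bool × ZMod 3))
instance : Fintype Four := inferInstanceAs (Fintype (Bool × Bool))
instance : DecidableEq Four := inferInstanceAs (DecidableEq (Bool × Bool))
instance : Fintype Nine := inferInstanceAs (Fintype (ZMod 3 × ZMod 3))
instance : DecidableEq Nine := inferInstanceAs (DecidableEq (ZMod 3 × ZMod 3))

instance : MulAction W Six where
  smul w p := (w.s ^^ p.1, pt3 (comp w (w.s ^^ p.1)) p.2)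
  one_smul p := by
    show ((1 : W).s ^^ p.1, pt3 (comp 1 ((1 : W).s ^^ p.1)) p.2) = p
    obtain ⟨i, x⟩ := p
    cases i <;> simp [one_def, comp, pt3_one] <;> rfl
  mul_smul x y p := by
    show (((x * y).s ^^ p.1), pt3 (comp (x * y) ((x * y).s ^^ p.1)) p.2) =
      (x.s ^^ (y.s ^^ p.1), pt3 (comp x (x.s ^^ (y.s ^^ p.1))) (pt3 (comp y (y.s ^^ p.1)) p.2))
    rw [comp_mul, pt3_mul, s_mul]
    cases x.s <;> cases y.s <;> cases p.1 <;> rfl

instance : MulAction W Four where
  smul w p := (w.s ^^ p.1, odd3 (comp w (w.s ^^ p.1)) ^^ p.2)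
  one_smul p := by
    show ((1 : W).s ^^ p.1, odd3 (comp 1 ((1 : W).s ^^ p.1)) ^^ p.2) = p
    obtain ⟨i, x⟩ := p
    cases i <;> cases x <;> rfl
  mul_smul x y p := by
    show (((x * y).s ^^ p.1), odd3 (comp (x * y) ((x * y).s ^^ p.1)) ^^ p.2) =
      (x.s ^^ (y.s ^^ p.1), odd3 (comp x (x.s ^^ (y.s ^^ p.1))) ^^
        (odd3 (comp y (y.s ^^ p.1)) ^^ p.2))
    rw [comp_mul, odd3_mul, s_mul]
    cases x.s <;> cases y.s <;> cases p.1 <;> exact Prod.ext rfl (Bool.xor_assoc _ _ _)

instance : MulAction W Nine where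
  smul w p := (pt3 w.a (if w.s then p.2 else p.1), pt3 w.b (if w.s then p.1 else p.2))
  one_smul p := by
    obtain ⟨x, y⟩ := p
    show (pt3 1 x, pt3 1 y) = ((x, y) : ZMod 3 × ZMod 3)
    simp [pt3_one]
  mul_smul x y p := by
    show (pt3 (x * y).a (if (x * y).s then p.2 else p.1),
        pt3 (x * y).b (if (x * y).s then p.1 else p.2)) =
      (pt3 x.a (if x.s then pt3 y.b (if y.s then p.1 else p.2)
          else pt3 y.a (if y.s then p.2 else p.1)),
        pt3 x.b (if x.s then pt3 y.a (if y.s then p.2 else p.1)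
          else pt3 y.b (if y.s then p.1 else p.2)))
    rw [s_mul, mul_def]
    cases x.s <;> cases y.s <;> simp [pt3_mul]

/-- The number of fixed points. -/
def fixCount (X : Type) [Fintype X] [DecidableEq X] [MulAction W X] (w : W) : ℤ :=
  ((Finset.univ.filter fun p : X => w • p = p).card : ℤ)

/-- The sign of the exchange. -/
def sgS (w : W) : ℤ := if w.s then -1 else 1
/-- The product of the two signs. -/
def sgE (w : W) : ℤ := if odd3 w.a ^^ odd3 w.b then -1 else 1
/-- The character of degree two. -/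
def two (w : W) : ℤ := fixCount Four w - 1 - sgS w
/-- A character of degree four. -/
def c12 (w : W) : ℤ := fixCount Six w - 1 - sgS w
/-- Another character of degree four. -/
def f4 (w : W) : ℤ := fixCount Nine w - 1 - c12 w
/-- The function `A`. -/
def fA (w : W) : ℤ := 1 + sgE w + two w - f4 w
/-- The function `G`. -/
def fG (w : W) : ℤ := 1 + sgS w + two w - c12 w
/-- The function `B`. -/
def fB (w : W) : ℤ := sgS w * fA w
/-- The function `D`. -/
def fD (w : W) : ℤ := sgE w * fG w
/-- The function giving the congruence modulo nine. -/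
def fV (w : W) : ℤ :=
  -(1 + sgS w + sgE w + sgE w * sgS w) - 2 * two w + f4 w + sgS w * f4 w + c12 w + sgE w * c12 w

/-- The normal subgroup of order nine. -/
def InM (w : W) : Prop := w.s = false ∧ odd3 w.a = false ∧ odd3 w.b = false

instance (w : W) : Decidable (InM w) := by unfold InM; infer_instance

/-- Elements of order three and six. -/
def InX (w : W) : Prop := InM (w * w) ∧ w * w ≠ 1

instance (w : W) : Decidable (InX w) := by unfold InX; infer_instance

/-- An involution in one component. -/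
def tA : W := ⟨.sr 0, 1, false⟩
/-- An involution in both components. -/
def tT : W := ⟨.sr 0, .sr 0, false⟩
/-- The exchange. -/
def tB : W := ⟨1, 1, true⟩

/-- The involutions in one component. -/
def clA : Finset W :=
  Finset.univ.filter fun w => w.s = false ∧ w ≠ 1 ∧ w * w = 1 ∧ (w.a = 1 ∨ w.b = 1)
/-- The involutions in both components. -/
def clT : Finset W :=
  Finset.univ.filter fun w => w.s = false ∧ w * w = 1 ∧ w.a ≠ 1 ∧ w.b ≠ 1
/-- The involutions exchanging the components. -/
def clB : Finset W := Finset.univ.filter fun w => w.s = true ∧ w * w = 1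
/-- Both kinds inside the components. -/
def clAT : Finset W := Finset.univ.filter fun w => w.s = false ∧ w ≠ 1 ∧ w * w = 1
/-- The exchanging ones and those in both components. -/
def clBT : Finset W :=
  Finset.univ.filter fun w => w * w = 1 ∧ (w.s = true ∨ (w.a ≠ 1 ∧ w.b ≠ 1))

theorem vanish : ∀ w : W, ¬InX w → fA w = 0 ∧ fG w = 0 ∧ fB w = 0 ∧ fD w = 0 := by decide +kernel

theorem congr_fun : ∀ w : W,
    (if w = 1 then (72 : ℤ) else 0) - 5 * (fA w + fG w + fB w + fD w) = 9 * fV w := by
  decide +kernel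

theorem sums : (∑ w, fA w = 72 * 1) ∧ (∑ w, fG w = 72 * 1) ∧ (∑ w, fB w = 72 * 0) ∧
    (∑ w, fD w = 72 * 0) := by decide +kernel

theorem grams : (∑ w, fA w * fA w = 72 * 4) ∧ (∑ w, fG w * fG w = 72 * 4) ∧
    (∑ w, fB w * fB w = 72 * 4) ∧ (∑ w, fD w * fD w = 72 * 4) ∧ (∑ w, fA w * fG w = 72 * 2) ∧
    (∑ w, fA w * fB w = 72 * 1) ∧ (∑ w, fA w * fD w = 72 * 2) ∧ (∑ w, fG w * fB w = 72 * 2) ∧
    (∑ w, fG w * fD w = 72 * 1) ∧ (∑ w, fB w * fD w = 72 * 2) := by decide +kernel

/-- The sum over products from two sets. -/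
def pairSum (P Q : Finset W) (f : W → ℤ) : ℤ := ∑ u ∈ P, ∑ v ∈ Q, f (u * v)

theorem pairs_plain :
    (pairSum clA clA fA = 36 * 2 ∧ pairSum clA clB fA = 36 * 0 ∧ pairSum clB clB fA = 36 * 1) ∧
    (pairSum clA clA fG = 36 * 1 ∧ pairSum clA clB fG = 36 * 0 ∧ pairSum clB clB fG = 36 * 2) ∧
    (pairSum clA clA fB = 36 * 2 ∧ pairSum clA clB fB = 36 * 0 ∧ pairSum clB clB fB = 36 * 1) ∧
    (pairSum clA clA fD = 36 * 1 ∧ pairSum clA clB fD = 36 * 0 ∧ pairSum clB clB fD = 36 * 2) := by
  decide +kernel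

theorem pairs_fusedA :
    (pairSum clAT clAT fA = 36 * 11 ∧ pairSum clAT clB fA = 36 * 3 ∧
      pairSum clB clB fA = 36 * 1) ∧
    (pairSum clAT clAT fG = 36 * 16 ∧ pairSum clAT clB fG = 36 * 0 ∧
      pairSum clB clB fG = 36 * 2) ∧
    (pairSum clAT clAT fB = 36 * 11 ∧ pairSum clAT clB fB = 36 * (-3) ∧
      pairSum clB clB fB = 36 * 1) ∧
    (pairSum clAT clAT fD = 36 * 4 ∧ pairSum clAT clB fD = 36 * 0 ∧
      pairSum clB clB fD = 36 * 2) := by
  decide +kernel

theorem pairs_fusedB :
    (pairSum clA clA fA = 36 * 2 ∧ pairSum clA clBT fA = 36 * 0 ∧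
      pairSum clBT clBT fA = 36 * 16) ∧
    (pairSum clA clA fG = 36 * 1 ∧ pairSum clA clBT fG = 36 * 3 ∧
      pairSum clBT clBT fG = 36 * 11) ∧
    (pairSum clA clA fB = 36 * 2 ∧ pairSum clA clBT fB = 36 * 0 ∧
      pairSum clBT clBT fB = 36 * 4) ∧
    (pairSum clA clA fD = 36 * 1 ∧ pairSum clA clBT fD = 36 * (-3) ∧
      pairSum clBT clBT fD = 36 * 11) := by
  decide +kernel

theorem invol_cases : ∀ w : W, w ≠ 1 → w * w = 1 →
    (w ∈ clA ∧ ∃ γ, γ * tA = w * γ) ∨ (w ∈ clT ∧ ∃ γ, γ * tT = w * γ) ∨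
      (w ∈ clB ∧ ∃ γ, γ * tB = w * γ) := by decide +kernel

theorem unions : (∀ w, w ∈ clAT ↔ w ∈ clA ∨ w ∈ clT) ∧ (∀ w, w ∈ clBT ↔ w ∈ clB ∨ w ∈ clT) := by
  decide +kernel

/-- An element of order three centralised by `tA`. -/
def zA : W := ⟨1, .r 1, false⟩
/-- An element of order three centralised by `tB`. -/
def zB : W := ⟨.r 1, .r 1, false⟩

theorem z_facts : (InM zA ∧ InM zB ∧ zA ≠ 1 ∧ zB ≠ 1) ∧ (zA * tA = tA * zA ∧ zB * tB = tB * zB) ∧
    (tA ≠ 1 ∧ tA * tA = 1 ∧ tT ≠ 1 ∧ tT * tT = 1 ∧ tB ≠ 1 ∧ tB * tB = 1) := by decide +kernel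

theorem z_not_conj : ∀ γ : W, γ * zB ≠ zA * γ ∧ γ * zB ≠ zA * zA * γ := by decide +kernel

theorem three_cent : ∀ v : W, InM v → v * tA = tA * v → v = 1 ∨ v = zA ∨ v = zA * zA := by
  decide +kernel

theorem cube_inM : ∀ v : W, InM v ↔ v * v * v = 1 := by decide +kernel

theorem card_W : Fintype.card W = 72 := by decide +kernel

/-- An integer function as a complex one. -/
def castC (f : W → ℤ) : W → ℂ := fun w => (f w : ℂ)

theorem vc_fix (X : Type) [Fintype X] [DecidableEq X] [MulAction W X] :
    IsGeneralizedCharacter W (castC (fixCount X)) := by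
  have h := Chars.isGeneralizedCharacter_of_isCharacter (Chars.isCharacter_permChar (G := W) X)
  have e : (fun g : W => (Nat.card (MulAction.fixedBy X g) : ℂ)) = castC (fixCount X) := by
    funext g
    simp only [castC, fixCount, Int.cast_natCast]
    congr 1
    rw [Nat.card_eq_fintype_card, ← Fintype.card_subtype]
    exact Fintype.card_congr (Equiv.refl _)
  rwa [e] at h

theorem sgS_mul : ∀ x y : W, sgS (x * y) = sgS x * sgS y := by decide +kernel

theorem sgE_mul : ∀ x y : W, sgE (x * y) = sgE x * sgE y := by decide +kernel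

theorem vc_sgS : IsGeneralizedCharacter W (castC sgS) := by
  let f : W →* ℂ :=
    { toFun := castC sgS
      map_one' := by show ((sgS 1 : ℤ) : ℂ) = 1; rw [show sgS 1 = 1 from by decide +kernel]; norm_num
      map_mul' := fun x y => by simp [castC, sgS_mul] }
  exact Chars.isGeneralizedCharacter_of_isCharacter (Chars.isCharacter_hom f.toHomUnits)

theorem vc_sgE : IsGeneralizedCharacter W (castC sgE) := by
  let f : W →* ℂ :=
    { toFun := castC sgE
      map_one' := by show ((sgE 1 : ℤ) : ℂ) = 1; rw [show sgE 1 = 1 from by decide +kernel]; norm_num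
      map_mul' := fun x y => by simp [castC, sgE_mul] }
  exact Chars.isGeneralizedCharacter_of_isCharacter (Chars.isCharacter_hom f.toHomUnits)

theorem vc_const : IsGeneralizedCharacter W (castC fun _ => 1) := by
  have h := Chars.isGeneralizedCharacter_of_isCharacter (Chars.isCharacter_hom (1 : W →* ℂˣ))
  have e : (fun g : W => (((1 : W →* ℂˣ) g : ℂˣ) : ℂ)) = castC fun _ => 1 := by funext g; simp [castC]
  rwa [e] at h

theorem vc_add' {f g h : W → ℤ} (hf : IsGeneralizedCharacter W (castC f))
    (hg : IsGeneralizedCharacter W (castC g)) (e : ∀ w, h w = f w + g w) :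
    IsGeneralizedCharacter W (castC h) := by
  have e' : castC h = castC f + castC g := by funext w; simp [castC, e]
  rw [e']; exact Chars.isGeneralizedCharacter_add hf hg

theorem vc_sub' {f g h : W → ℤ} (hf : IsGeneralizedCharacter W (castC f))
    (hg : IsGeneralizedCharacter W (castC g)) (e : ∀ w, h w = f w - g w) :
    IsGeneralizedCharacter W (castC h) := by
  have e' : castC h = castC f - castC g := by funext w; simp [castC, e]
  rw [e']; exact Chars.isGeneralizedCharacter_sub hf hg

theorem vc_mul' {f g h : W → ℤ} (hf : IsGeneralizedCharacter W (castC f))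
    (hg : IsGeneralizedCharacter W (castC g)) (e : ∀ w, h w = f w * g w) :
    IsGeneralizedCharacter W (castC h) := by
  have e' : castC h = castC f * castC g := by funext w; simp [castC, e]
  rw [e']; exact Chars.isGeneralizedCharacter_mul hf hg

theorem vc_all : IsGeneralizedCharacter W (castC fA) ∧ IsGeneralizedCharacter W (castC fG) ∧
    IsGeneralizedCharacter W (castC fB) ∧ IsGeneralizedCharacter W (castC fD) ∧
    IsGeneralizedCharacter W (castC fV) := by
  have hone := vc_const
  have h2 : IsGeneralizedCharacter W (castC two) :=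
    vc_sub' (vc_sub' (vc_fix Four) hone (h := fun w => fixCount Four w - 1) fun _ => rfl) vc_sgS
      fun _ => rfl
  have h12 : IsGeneralizedCharacter W (castC c12) :=
    vc_sub' (vc_sub' (vc_fix Six) hone (h := fun w => fixCount Six w - 1) fun _ => rfl) vc_sgS
      fun _ => rfl
  have h4 : IsGeneralizedCharacter W (castC f4) :=
    vc_sub' (vc_sub' (vc_fix Nine) hone (h := fun w => fixCount Nine w - 1) fun _ => rfl) h12
      fun _ => rfl
  have hA : IsGeneralizedCharacter W (castC fA) :=
    vc_sub' (vc_add' (vc_add' hone vc_sgE (h := fun w => 1 + sgE w) fun _ => rfl) h2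
      (h := fun w => 1 + sgE w + two w) fun _ => rfl) h4 fun _ => rfl
  have hG : IsGeneralizedCharacter W (castC fG) :=
    vc_sub' (vc_add' (vc_add' hone vc_sgS (h := fun w => 1 + sgS w) fun _ => rfl) h2
      (h := fun w => 1 + sgS w + two w) fun _ => rfl) h12 fun _ => rfl
  refine ⟨hA, hG, vc_mul' vc_sgS hA fun _ => rfl, vc_mul' vc_sgE hG fun _ => rfl, ?_⟩
  have lin : IsGeneralizedCharacter W (castC fun w => 1 + sgS w + sgE w + sgE w * sgS w) :=
    vc_add' (vc_add' (vc_add' hone vc_sgS (h := fun w => 1 + sgS w) fun _ => rfl) vc_sgE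
      (h := fun w => 1 + sgS w + sgE w) fun _ => rfl)
      (vc_mul' vc_sgE vc_sgS (h := fun w => sgE w * sgS w) fun _ => rfl) fun _ => rfl
  have fours : IsGeneralizedCharacter W
      (castC fun w => f4 w + sgS w * f4 w + c12 w + sgE w * c12 w) :=
    vc_add' (vc_add' (vc_add' h4 (vc_mul' vc_sgS h4 (h := fun w => sgS w * f4 w) fun _ => rfl)
      (h := fun w => f4 w + sgS w * f4 w) fun _ => rfl) h12
      (h := fun w => f4 w + sgS w * f4 w + c12 w) fun _ => rfl)
      (vc_mul' vc_sgE h12 (h := fun w => sgE w * c12 w) fun _ => rfl) fun _ => rfl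
  exact vc_sub' (vc_sub' fours lin (h := fun w => f4 w + sgS w * f4 w + c12 w + sgE w * c12 w
      - (1 + sgS w + sgE w + sgE w * sgS w)) fun _ => rfl)
    (vc_add' h2 h2 (h := fun w => two w + two w) fun _ => rfl)
    fun w => by simp only [fV]; ring

end Cfsg.Agent.Lib.Higman9
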