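import Mathlib
import Cfsg.Agent.Lib.Higman9.Model

/-!
A self-centralizing group of order nine whose normalizer has dihedral Sylow 2-subgroups of order
eight: the normalizer is isomorphic to the model.
-/

set_option autoImplicit false

namespace Cfsg.Agent.Lib.Higman9

/-- The hypotheses on a group of order nine. -/
structure Nine' {G : Type*} [Group G] (M : Sylow 3 G) (N : Subgroup G) : Prop where
  card : Nat.card (M : Subgroup G) = 9
  cube : ∀ m ∈ (M : Subgroup G), m ^ 3 = 1
  self_cent : Subgroup.centralizer ((M : Subgroup G) : Set G) = (M : Subgroup G)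
  norm : N = Subgroup.normalizer ((M : Subgroup G) : Set G)

theorem d4_facts : ∀ g : DihedralGroup 4,
    ∃ (i : Fin 4) (j : Fin 2), g = (.sr 0 * .sr 1) ^ (i : ℕ) * .sr 0 ^ (j : ℕ) := by
  decide +kernel

theorem d4_rel : ((DihedralGroup.sr 0 : DihedralGroup 4) * .sr 0 = 1 ∧
    (DihedralGroup.sr 1 : DihedralGroup 4) * .sr 1 = 1) ∧
    ((DihedralGroup.sr 1 : DihedralGroup 4) * .sr 0 * .sr 1 ≠ .sr 0) ∧
    ((DihedralGroup.sr 0 : DihedralGroup 4) * (.sr 1 * .sr 0 * .sr 1) =
      .sr 1 * .sr 0 * .sr 1 * .sr 0) ∧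
    ((DihedralGroup.sr 0 : DihedralGroup 4) ≠ 1) ∧
    (DihedralGroup.sr 0 * .sr 1 * .sr 0 * .sr 1 : DihedralGroup 4) ≠ 1 := by decide +kernel

section Dih

variable {G : Type*} [Group G]

theorem pow_val_add {x : G} (hx : x ^ 3 = 1) (i j : ZMod 3) :
    x ^ (i + j).val = x ^ i.val * x ^ j.val := by
  rw [← pow_add, ZMod.val_add]
  exact (pow_eq_pow_mod _ hx).symm

theorem pow_val_mul {x : G} (hx : x ^ 3 = 1) (i : ZMod 3) :
    x ^ (-i).val = (x ^ i.val)⁻¹ := by
  refine eq_inv_of_mul_eq_one_left ?_
  rw [← pow_val_add hx, neg_add_cancel, ZMod.val_zero, pow_zero]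

/-- The homomorphism given by a rotation and a reflection. -/
def dihHom (x c : G) (hx : x ^ 3 = 1) (hc : c * c = 1) (h : c * x * c = x⁻¹) : D3 →* G where
  toFun
    | .r i => x ^ i.val
    | .sr i => c * x ^ i.val
  map_one' := by
    show x ^ (0 : ZMod 3).val = 1
    rw [ZMod.val_zero, pow_zero]
  map_mul' p q := by
    have hpow : ∀ n : ℕ, c * x ^ n = (x ^ n)⁻¹ * c := by
      intro n
      have hci : c⁻¹ = c := inv_eq_of_mul_eq_one_right hc
      have e : (c * x * c⁻¹) ^ n = c * x ^ n * c⁻¹ := conj_pow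
      rw [hci, h, inv_pow] at e
      rw [e, mul_assoc, hc, mul_one]
    have hpow' : ∀ n : ℕ, c * (x ^ n)⁻¹ = x ^ n * c := fun n => by
      calc c * (x ^ n)⁻¹ = x ^ n * ((x ^ n)⁻¹ * c) * (x ^ n)⁻¹ := by group
        _ = x ^ n * (c * x ^ n) * (x ^ n)⁻¹ := by rw [hpow n]
        _ = x ^ n * c := by group
    match p, q with
    | .r i, .r j =>
      show x ^ (i + j).val = _
      exact pow_val_add hx i j
    | .r i, .sr j =>
      show c * x ^ (j - i).val = x ^ i.val * (c * x ^ j.val)
      rw [sub_eq_add_neg, add_comm, pow_val_add hx, pow_val_mul hx, ← mul_assoc, hpow', mul_assoc]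
    | .sr i, .r j =>
      show c * x ^ (i + j).val = c * x ^ i.val * x ^ j.val
      rw [pow_val_add hx, mul_assoc]
    | .sr i, .sr j =>
      show x ^ (j - i).val = c * x ^ i.val * (c * x ^ j.val)
      rw [sub_eq_add_neg, add_comm, pow_val_add hx, pow_val_mul hx, mul_assoc c,
        ← mul_assoc (x ^ i.val), ← hpow', ← mul_assoc, ← mul_assoc, hc, one_mul]

theorem dihHom_mem {x c : G} (hx : x ^ 3 = 1) (hc : c * c = 1) (h : c * x * c = x⁻¹) {P : Subgroup G}
    (hxP : x ∈ P) (hcP : c ∈ P) (p : D3) : dihHom x c hx hc h p ∈ P := by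
  match p with
  | .r i => exact P.pow_mem hxP _
  | .sr i => exact P.mul_mem hcP (P.pow_mem hxP _)

theorem dihHom_commute {x c u a : G} (hx : x ^ 3 = 1) (hc : c * c = 1) (h : c * x * c = x⁻¹)
    (hu : u ^ 3 = 1) (ha : a * a = 1) (h' : a * u * a = u⁻¹) (h1 : Commute x u) (h2 : Commute x a)
    (h3 : Commute c u) (h4 : Commute c a) (p q : D3) :
    Commute (dihHom x c hx hc h p) (dihHom u a hu ha h' q) := by
  match p, q with
  | .r i, .r j => exact h1.pow_pow _ _
  | .r i, .sr j => exact (h2.pow_left _).mul_right (h1.pow_pow _ _)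
  | .sr i, .r j => exact (h3.pow_right _).mul_left (h1.pow_pow _ _)
  | .sr i, .sr j =>
    exact (h4.mul_right (h3.pow_right _)).mul_left ((h2.pow_left _).mul_right (h1.pow_pow _ _))

theorem dihHom_conj {x c u a b : G} (hx : x ^ 3 = 1) (hc : c * c = 1) (h : c * x * c = x⁻¹)
    (hu : u ^ 3 = 1) (ha : a * a = 1) (h' : a * u * a = u⁻¹) (hb : b * b = 1) (e1 : b * x * b = u)
    (e2 : b * c * b = a) (p : D3) :
    b * dihHom x c hx hc h p = dihHom u a hu ha h' p * b := by
  have hpow : ∀ n : ℕ, b * x ^ n = u ^ n * b := fun n =>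
    SemiconjBy.pow_right (show SemiconjBy b x u by
      rw [SemiconjBy, ← e1, mul_assoc, hb, mul_one]) n
  match p with
  | .r i => exact hpow _
  | .sr i =>
    show b * (c * x ^ i.val) = a * u ^ i.val * b
    calc b * (c * x ^ i.val) = b * c * b * (b * x ^ i.val) := by
          rw [← mul_assoc (b * c * b), mul_assoc (b * c) b b, hb, mul_one, mul_assoc]
      _ = a * u ^ i.val * b := by rw [e2, hpow, ← mul_assoc]

end Dih

variable {G : Type*} [Group G] [Finite G] {M : Sylow 3 G} {N : Subgroup G}

namespace Nine'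

variable (h : Nine' M N)

include h

theorem le : (M : Subgroup G) ≤ N := by rw [h.norm]; exact Subgroup.le_normalizer

theorem comm {m n : G} (hm : m ∈ (M : Subgroup G)) (hn : n ∈ (M : Subgroup G)) : m * n = n * m := by
  have := hm
  rw [← h.self_cent] at this
  exact (Subgroup.mem_centralizer_iff.1 this n hn).symm

theorem conj_mem {g m : G} (hg : g ∈ N) (hm : m ∈ (M : Subgroup G)) :
    g * m * g⁻¹ ∈ (M : Subgroup G) := by
  rw [h.norm] at hg
  exact (Subgroup.mem_normalizer_iff.1 hg m).1 hm

/-- An element of the normalizer of prime order above three centralizes, so is absent. -/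
theorem prime_le_three {g : G} (hg : g ∈ N) {p : ℕ} (hp : p.Prime) (hgp : orderOf g = p) :
    p ≤ 3 := by
  classical
  by_contra hp3
  push Not at hp3
  haveI := Fact.mk hp
  haveI := Fintype.ofFinite (M : Subgroup G)
  let σ : Function.End (M : Subgroup G) := fun m => ⟨g * m * g⁻¹, h.conj_mem hg m.2⟩
  have hσ : ∀ (n : ℕ) (m : (M : Subgroup G)), ((σ ^ n) m : G) = g ^ n * m * (g ^ n)⁻¹ := by
    intro n
    induction n with
    | zero => intro m; simp; rfl
    | succ n ih =>
      intro m
      rw [pow_succ']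
      show g * ((σ ^ n) m : G) * g⁻¹ = _
      rw [ih, pow_succ']
      simp [mul_assoc]
  have hσp : σ ^ p ^ 1 = 1 := funext fun m => Subtype.ext (by
    rw [hσ, pow_one, ← hgp, pow_orderOf_eq_one]
    simp
    rfl)
  have hmod := Equiv.Perm.card_fixedPoints_modEq (n := 1) hσp
  let K : Subgroup (M : Subgroup G) := (Subgroup.centralizer ({g} : Set G)).subgroupOf (M : Subgroup G)
  have hK : Fintype.card (Function.fixedPoints σ) = Nat.card K := by
    rw [← Nat.card_eq_fintype_card]
    refine Nat.card_congr (Equiv.subtypeEquivRight fun m => ?_)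
    rw [Function.fixedPoints, Set.mem_setOf_eq, Function.IsFixedPt, Subtype.ext_iff,
      Subgroup.mem_subgroupOf, Subgroup.mem_centralizer_singleton_iff]
    show g * (m : G) * g⁻¹ = m ↔ (m : G) * g = g * m
    rw [mul_inv_eq_iff_eq_mul]
    exact eq_comm
  have hdvd : Nat.card K ∣ 9 := by
    rw [← h.card]; exact Subgroup.card_subgroup_dvd_card K
  rw [hK, ← Nat.card_eq_fintype_card, h.card] at hmod
  have h9 : Nat.card K = 9 := by
    obtain ⟨i, hi, e⟩ := (Nat.dvd_prime_pow Nat.prime_three).1 (show Nat.card K ∣ 3 ^ 2 from hdvd)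
    interval_cases i
    · exfalso
      rw [e] at hmod
      have : p ∣ 8 := (Nat.modEq_iff_dvd' (by norm_num)).1 hmod.symm
      have := (Nat.prime_dvd_prime_iff_eq hp Nat.prime_two).1
        (hp.dvd_of_dvd_pow (show p ∣ 2 ^ 3 from this))
      omega
    · exfalso
      rw [e] at hmod
      have h6 : p ∣ 2 * 3 := (Nat.modEq_iff_dvd' (by norm_num)).1 hmod.symm
      rcases hp.dvd_mul.1 h6 with d | d
      · have := Nat.le_of_dvd (by norm_num) d; omega
      · have := Nat.le_of_dvd (by norm_num) d; omega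
    · exact e
  have hKtop : K = ⊤ := Subgroup.eq_top_of_card_eq _ (by rw [h9, h.card])
  have hgM : g ∈ (M : Subgroup G) := by
    rw [← h.self_cent, Subgroup.mem_centralizer_iff]
    intro m hm
    exact Subgroup.mem_centralizer_singleton_iff.1
      (Subgroup.mem_subgroupOf.1 (hKtop ▸ Subgroup.mem_top (⟨m, hm⟩ : (M : Subgroup G))) :)
  have : p ∣ 3 := hgp ▸ orderOf_dvd_of_pow_eq_one (h.cube g hgM)
  have := Nat.le_of_dvd (by norm_num) this
  omega

theorem card_N (hS : ∀ S : Sylow 2 N, Nonempty ((S : Subgroup N) ≃* DihedralGroup 4)) :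
    Nat.card N = 72 := by
  haveI : Fact (Nat.Prime 2) := ⟨Nat.prime_two⟩
  haveI : Fact (Nat.Prime 3) := ⟨Nat.prime_three⟩
  obtain ⟨S⟩ := (inferInstance : Nonempty (Sylow 2 N))
  obtain ⟨e⟩ := hS S
  have h2 : (Nat.card N).factorization 2 = 3 := by
    have := Sylow.card_eq_multiplicity S
    rw [Nat.card_congr e.toEquiv, DihedralGroup.nat_card] at this
    exact (Nat.pow_right_injective le_rfl this.symm)
  have h3 : (Nat.card N).factorization 3 = 2 := by
    have hG : (Nat.card G).factorization 3 = 2 := by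
      have := Sylow.card_eq_multiplicity M
      rw [h.card] at this
      exact (Nat.pow_right_injective (le_of_lt (by norm_num : 2 < 3)) this.symm)
    have hle := (Nat.factorization_le_iff_dvd Nat.card_pos.ne' Nat.card_pos.ne').2
      (Subgroup.card_subgroup_dvd_card N) 3
    have hge := (Nat.factorization_le_iff_dvd Nat.card_pos.ne' Nat.card_pos.ne').2
      (Subgroup.card_dvd_of_le h.le) 3
    rw [h.card, show (9 : ℕ) = 3 ^ 2 from rfl, Nat.Prime.factorization_pow Nat.prime_three] at hge
    simp at hge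
    omega
  have hpos : Nat.card N ≠ 0 := Nat.card_pos.ne'
  apply Nat.eq_of_factorization_eq hpos (by norm_num)
  intro p
  by_cases hp : p.Prime
  · have e72 : (72 : ℕ).factorization p = (2 ^ 3 : ℕ).factorization p + (3 ^ 2 : ℕ).factorization p := by
      rw [show (72 : ℕ) = 2 ^ 3 * 3 ^ 2 from rfl, Nat.factorization_mul (by norm_num) (by norm_num)]
      rfl
    rw [e72, Nat.Prime.factorization_pow Nat.prime_two, Nat.Prime.factorization_pow Nat.prime_three]
    by_cases p2 : p = 2
    · subst p2; simp [h2]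
    by_cases p3 : p = 3
    · subst p3; simp [h3]
    rw [Finsupp.single_apply, Finsupp.single_apply, if_neg (Ne.symm p2), if_neg (Ne.symm p3)]
    refine Nat.factorization_eq_zero_of_not_dvd fun hd => ?_
    haveI := Fact.mk hp
    obtain ⟨g, hg⟩ := exists_prime_orderOf_dvd_card' p hd
    have h5 := h.prime_le_three g.2 hp (by rw [← hg, Subgroup.orderOf_coe])
    have := hp.two_le
    omega
  · rw [Nat.factorization_eq_zero_of_not_prime _ hp, Nat.factorization_eq_zero_of_not_prime _ hp]

theorem exists_basis (hS : ∀ S : Sylow 2 N, Nonempty ((S : Subgroup N) ≃* DihedralGroup 4)) :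
    ∃ (S : Sylow 2 N) (a b x : G), (a ∈ N ∧ b ∈ N ∧ x ∈ (M : Subgroup G)) ∧
      (∀ P : Subgroup G, a ∈ P → b ∈ P → (S : Subgroup N).map N.subtype ≤ P) ∧
      (a * a = 1 ∧ b * b = 1 ∧ Commute a (b * a * b)) ∧
      (a * x = x * a ∧ b * a * b * x * (b * a * b) = x⁻¹) ∧ x ≠ 1 := by
  obtain ⟨S⟩ := (inferInstance : Nonempty (Sylow 2 N))
  obtain ⟨e⟩ := hS S
  obtain ⟨⟨r1, r2⟩, r3, r4, r5, r6⟩ := d4_rel
  obtain ⟨sa, hsa⟩ : ∃ s, s = e.symm (.sr 0) := ⟨_, rfl⟩
  obtain ⟨sb, hsb⟩ : ∃ s, s = e.symm (.sr 1) := ⟨_, rfl⟩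
  set a : G := ((sa : N) : G) with ha
  set b : G := ((sb : N) : G) with hb
  have aN : a ∈ N := (sa : N).2
  have bN : b ∈ N := (sb : N).2
  have back : ∀ s t : (S : Subgroup N), ((s : N) : G) = ((t : N) : G) → s = t := fun s t hh =>
    Subtype.ext (Subtype.ext hh)
  have fact : ∀ s : (S : Subgroup N), ((s : N) : G) ∈ (M : Subgroup G) → s = 1 := by
    intro s hs
    have h3 : orderOf s ∣ 3 := orderOf_dvd_of_pow_eq_one (back _ _ (by simpa using h.cube _ hs))
    have h8 : orderOf s ∣ 8 := by
      have := orderOf_dvd_natCard s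
      rwa [Nat.card_congr e.toEquiv, DihedralGroup.nat_card] at this
    exact orderOf_eq_one_iff.1 (Nat.eq_one_of_dvd_coprimes (by norm_num : Nat.Coprime 3 8) h3 h8)
  have faith : ∀ s : (S : Subgroup N), (∀ m ∈ (M : Subgroup G),
      ((s : N) : G) * m = m * ((s : N) : G)) → s = 1 := fun s hs => fact s (by
    rw [← h.self_cent, Subgroup.mem_centralizer_iff]
    exact fun m hm => (hs m hm).symm)
  have a2 : a * a = 1 := by
    have : sa * sa = 1 := by rw [hsa, ← map_mul, r1, map_one]
    simpa [ha] using congrArg (fun s : (S : Subgroup N) => ((s : N) : G)) this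
  have b2 : b * b = 1 := by
    have : sb * sb = 1 := by rw [hsb, ← map_mul, r2, map_one]
    simpa [hb] using congrArg (fun s : (S : Subgroup N) => ((s : N) : G)) this
  obtain ⟨c, hc⟩ : ∃ c : G, c = b * a * b := ⟨_, rfl⟩
  have hac : a * c = c * a := by
    have : sa * (sb * sa * sb) = sb * sa * sb * sa := by
      rw [hsa, hsb, ← map_mul, ← map_mul, ← map_mul, r4, map_mul]
    rw [hc]
    simpa [ha, hb, mul_assoc] using congrArg (fun s : (S : Subgroup N) => ((s : N) : G)) this
  have cN : c ∈ N := by rw [hc]; exact N.mul_mem (N.mul_mem bN aN) bN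
  have ainv : a⁻¹ = a := inv_eq_of_mul_eq_one_right a2
  have binv : b⁻¹ = b := inv_eq_of_mul_eq_one_right b2
  have c2 : c * c = 1 := by
    calc c * c = b * a * (b * b) * a * b := by rw [hc]; group
      _ = 1 := by rw [b2, mul_one, mul_assoc b a a, a2, mul_one, b2]
  have cinv : c⁻¹ = c := inv_eq_of_mul_eq_one_right c2
  have ca : ∀ m ∈ (M : Subgroup G), a * m * a ∈ (M : Subgroup G) := fun m hm => by
    simpa [ainv] using h.conj_mem aN hm
  have cc : ∀ m ∈ (M : Subgroup G), c * m * c ∈ (M : Subgroup G) := fun m hm => by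
    simpa [cinv] using h.conj_mem cN hm
  have cb : ∀ m ∈ (M : Subgroup G), b * m * b ∈ (M : Subgroup G) := fun m hm => by
    simpa [binv] using h.conj_mem bN hm
  -- `a` fixes a nontrivial element
  obtain ⟨x, hxM, hax, hx1⟩ : ∃ x ∈ (M : Subgroup G), a * x = x * a ∧ x ≠ 1 := by
    by_contra hno
    push Not at hno
    have hinv : ∀ m ∈ (M : Subgroup G), a * m * a = m⁻¹ := by
      intro m hm
      have hmem := (M : Subgroup G).mul_mem hm (ca m hm)
      have h1 := hno _ hmem (by
        rw [h.comm hm (ca m hm)]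
        calc a * (a * m * a * m) = a * a * m * a * m := by group
          _ = m * a * m := by rw [a2, one_mul]
          _ = m * (a * m * a) * a := by
            rw [mul_assoc m (a * m * a) a, mul_assoc (a * m) a a, a2, mul_one, ← mul_assoc]
          _ = a * m * a * m * a := by rw [h.comm hm (ca m hm)])
      exact eq_inv_of_mul_eq_one_right h1
    apply r6
    apply e.symm.injective
    rw [map_one, map_mul, map_mul, map_mul, ← hsa, ← hsb]
    refine faith _ fun m hm => ?_
    show a * b * a * b * m = m * (a * b * a * b)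
    have key : a * b * a * b * m * (a * b * a * b)⁻¹ = m := by
      rw [mul_inv_rev, mul_inv_rev, mul_inv_rev, ainv, binv]
      calc a * b * a * b * m * (b * (a * (b * a))) = a * (b * (a * (b * m * b) * a) * b) * a := by
            group
        _ = a * (b * (b * m * b)⁻¹ * b) * a := by rw [hinv _ (cb m hm)]
        _ = a * m⁻¹ * a := by
          rw [mul_inv_rev, mul_inv_rev, binv]
          congr 2
          calc b * (b * (m⁻¹ * b)) * b = b * b * m⁻¹ * (b * b) := by group
            _ = m⁻¹ := by rw [b2]; group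
        _ = m := by rw [hinv _ ((M : Subgroup G).inv_mem hm), inv_inv]
    exact mul_inv_eq_iff_eq_mul.1 key
  refine ⟨S, a, b, x, ⟨aN, bN, hxM⟩, ?_, ⟨a2, b2, ?_⟩, ⟨hax, ?_⟩, hx1⟩
  swap
  · rw [← hc]; exact hac
  · intro P haP hbP g hg
    obtain ⟨y, hy, rfl⟩ := hg
    obtain ⟨i, j, hij⟩ := d4_facts (e ⟨y, hy⟩)
    have : (⟨y, hy⟩ : (S : Subgroup N)) = (sa * sb) ^ (i : ℕ) * sa ^ (j : ℕ) := by
      apply e.injective
      rw [hij, hsa, hsb]
      simp
    have e' : N.subtype y = (a * b) ^ (i : ℕ) * a ^ (j : ℕ) := by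
      have := congrArg (fun s : (S : Subgroup N) => ((s : N) : G)) this
      simpa using this
    rw [e']
    exact P.mul_mem (P.pow_mem (P.mul_mem haP hbP) _) (P.pow_mem haP _)
  -- the fixed points of `a` and of `c`
  let F : Subgroup G := (M : Subgroup G) ⊓ Subgroup.centralizer ({a} : Set G)
  have memF : ∀ m, m ∈ F ↔ m ∈ (M : Subgroup G) ∧ a * m = m * a := fun m => by
    rw [Subgroup.mem_inf, Subgroup.mem_centralizer_singleton_iff]
    exact and_congr_right fun _ => eq_comm
  have hFcard : Nat.card F = 3 := by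
    have hd : Nat.card F ∣ 3 ^ 2 := by
      have := Subgroup.card_dvd_of_le (inf_le_left : F ≤ (M : Subgroup G))
      rw [h.card] at this
      exact this
    obtain ⟨i, hi, hcard⟩ := (Nat.dvd_prime_pow Nat.prime_three).1 hd
    interval_cases i
    · exfalso
      have := Subgroup.eq_bot_of_card_eq F hcard
      exact hx1 ((Subgroup.mem_bot).1 (this ▸ (memF x).2 ⟨hxM, hax⟩))
    · exact hcard
    · exfalso
      have hFM : F = (M : Subgroup G) := Subgroup.eq_of_le_of_card_ge inf_le_left (by
        rw [hcard, h.card]; norm_num)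
      have : sa = 1 := faith sa fun m hm => ((memF m).1 (hFM ▸ hm)).2
      exact r5 (by
        apply e.symm.injective
        rw [map_one, ← hsa, this])
  have hxz : Subgroup.zpowers x = F := by
    haveI : Fact (Nat.Prime 3) := ⟨Nat.prime_three⟩
    refine Subgroup.eq_of_le_of_card_ge (Subgroup.zpowers_le.2 ((memF x).2 ⟨hxM, hax⟩)) ?_
    rw [hFcard, Nat.card_zpowers, orderOf_eq_prime (h.cube x hxM) hx1]
  have hcx : c * x * c ∈ F := by
    refine (memF _).2 ⟨cc x hxM, ?_⟩
    calc a * (c * x * c) = c * (a * x) * c := by rw [← mul_assoc, ← mul_assoc, hac]; group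
      _ = c * x * (a * c) := by rw [hax]; group
      _ = c * x * c * a := by rw [hac]; group
  rw [← hxz] at hcx
  obtain ⟨n, hn⟩ := Subgroup.mem_zpowers_iff.1 hcx
  have hx3 : x ^ (3 : ℤ) = 1 := by exact_mod_cast h.cube x hxM
  obtain ⟨r, q, hr, rfl⟩ : ∃ r q : ℤ, (r = 0 ∨ r = 1 ∨ r = 2) ∧ n = r + 3 * q :=
    ⟨n % 3, n / 3, by omega, by omega⟩
  rw [zpow_add, zpow_mul, hx3, one_zpow, mul_one] at hn
  rw [← hc]
  rcases hr with rfl | rfl | rfl
  · exfalso
    rw [zpow_zero] at hn
    apply hx1
    calc x = c * c * x * (c * c) := by rw [c2]; group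
      _ = c * (c * x * c) * c := by group
      _ = 1 := by rw [← hn, mul_one, c2]
  swap
  · rw [← hn]
    refine eq_inv_of_mul_eq_one_left ?_
    rw [← zpow_add_one, show (2 : ℤ) + 1 = 3 from rfl, hx3]
  -- otherwise `a` and `c` fix the same elements, so invert the same ones, and are equal
  exfalso
  rw [zpow_one] at hn
  have hFc : ∀ m ∈ (M : Subgroup G), c * m * c = m → m ∈ F := by
    let Fc : Subgroup G := (M : Subgroup G) ⊓ Subgroup.centralizer ({c} : Set G)
    have memFc : ∀ m, m ∈ Fc ↔ m ∈ (M : Subgroup G) ∧ c * m * c = m := fun m => by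
      rw [Subgroup.mem_inf, Subgroup.mem_centralizer_singleton_iff]
      refine and_congr_right fun _ => ⟨fun e => ?_, fun e => ?_⟩
      · rw [← e, mul_assoc, c2, mul_one]
      · calc m * c = c * m * c * c := by rw [e]
          _ = c * m := by rw [mul_assoc (c * m), c2, mul_one]
    have hle : F ≤ Fc := by
      rw [← hxz, Subgroup.zpowers_le]
      exact (memFc x).2 ⟨hxM, hn.symm⟩
    have hcard : Nat.card Fc = 3 := by
      rw [← hFcard]
      refine Nat.card_congr ⟨fun m => ⟨b * m * b, (memF _).2 ⟨cb _ ((memFc m).1 m.2).1, ?_⟩⟩,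
        fun m => ⟨b * m * b, (memFc _).2 ⟨cb _ ((memF m).1 m.2).1, ?_⟩⟩, fun m => ?_, fun m => ?_⟩
      · have e := ((memFc m).1 m.2).2
        calc a * (b * m * b) = b * b * a * b * (m : G) * b * (a * (b * b) * a) := by
              rw [b2]; simp [a2, mul_assoc]
          _ = b * (b * a * b * m * (b * a * b)) * b * a := by group
          _ = b * (c * m * c) * b * a := by rw [hc]
          _ = b * m * b * a := by rw [e]
      · have e := ((memF m).1 m.2).2
        rw [hc]
        calc b * a * b * (b * m * b) * (b * a * b) = b * a * (b * b) * m * (b * b) * a * b := by group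
          _ = b * (a * m) * a * b := by rw [b2]; group
          _ = b * m * (a * a) * b := by rw [e]; group
          _ = b * m * b := by rw [a2, mul_one]
      · exact Subtype.ext (show b * (b * (m : G) * b) * b = m by
          calc b * (b * (m : G) * b) * b = b * b * m * (b * b) := by group
            _ = m := by rw [b2]; group)
      · exact Subtype.ext (show b * (b * (m : G) * b) * b = m by
          calc b * (b * (m : G) * b) * b = b * b * m * (b * b) := by group
            _ = m := by rw [b2]; group)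
    have heq : F = Fc := Subgroup.eq_of_le_of_card_ge hle (by rw [hcard, hFcard])
    exact fun m hm e => heq ▸ (memFc m).2 ⟨hm, e⟩
  apply r3
  apply e.symm.injective
  rw [map_mul, map_mul, ← hsa, ← hsb]
  refine mul_inv_eq_one.1 (faith _ fun m hm => ?_)
  show b * a * b * a⁻¹ * m = m * (b * a * b * a⁻¹)
  rw [← hc, ainv]
  suffices hh : a * m * a = c * m * c by
    calc c * a * m = c * (a * m * a) * a⁻¹ := by group
      _ = c * (c * m * c) * a := by rw [hh, ainv]
      _ = c * c * m * (c * a) := by group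
      _ = m * (c * a) := by rw [c2, one_mul]
  set w := m * (a * m * a)⁻¹ with hw
  have hwM : w ∈ (M : Subgroup G) := (M : Subgroup G).mul_mem hm ((M : Subgroup G).inv_mem (ca m hm))
  have hw_inv : a * w * a = w⁻¹ := by
    rw [hw]; simp [mul_inv_rev, ainv, a2, mul_assoc]
  let I : Subgroup G :=
    { carrier := {v | v ∈ (M : Subgroup G) ∧ a * v * a = v⁻¹}
      one_mem' := ⟨one_mem _, by rw [mul_one, a2, inv_one]⟩
      mul_mem' := fun {v w} hv hw => ⟨mul_mem hv.1 hw.1, by
        calc a * (v * w) * a = a * v * (a * a) * w * a := by rw [a2]; group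
          _ = (a * v * a) * (a * w * a) := by group
          _ = (v * w)⁻¹ := by rw [hv.2, hw.2, mul_inv_rev, h.comm (inv_mem hv.1) (inv_mem hw.1)]⟩
      inv_mem' := fun {v} hv => ⟨inv_mem hv.1, by
        have := congrArg Inv.inv hv.2
        simpa [mul_inv_rev, ainv, mul_assoc] using this⟩ }
  have hFI : ∀ v, v ∈ F → v ∈ I → v = 1 := by
    intro v hv hv'
    obtain ⟨hvM, hv1⟩ := (memF v).1 hv
    have hv2 : a * v * a = v⁻¹ := hv'.2
    rw [hv1, mul_assoc, a2, mul_one] at hv2
    calc v = v ^ 3 * (v * v)⁻¹ := by group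
      _ = 1 := by rw [h.cube v hvM, one_mul, inv_eq_one]; exact mul_eq_one_iff_eq_inv.2 hv2
  have hIcard : Nat.card I ≤ 3 := by
    have hinj : Function.Injective (fun p : F × I => (⟨(p.1 : G) * p.2,
        mul_mem ((memF _).1 p.1.2).1 p.2.2.1⟩ : (M : Subgroup G))) := by
      intro p q hpq
      have hh : (p.1 : G) * p.2 = q.1 * q.2 := congrArg Subtype.val hpq
      have h1 : (q.1 : G)⁻¹ * p.1 = q.2 * (p.2 : G)⁻¹ := by
        rw [eq_mul_inv_iff_mul_eq, mul_assoc, hh, ← mul_assoc, inv_mul_cancel, one_mul]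
      have h2 := hFI _ (mul_mem (inv_mem q.1.2) p.1.2) (h1 ▸ mul_mem q.2.2 (inv_mem p.2.2))
      have e1 : (p.1 : G) = q.1 := (inv_mul_eq_one.1 h2).symm
      refine Prod.ext (Subtype.ext e1) (Subtype.ext ?_)
      rw [e1] at hh
      exact mul_left_cancel hh
    have := Nat.card_le_card_of_injective _ hinj
    rw [Nat.card_prod, hFcard, h.card] at this
    omega
  have hcw : c * w * c ∈ I := ⟨cc w hwM, by
    calc a * (c * w * c) * a = a * c * w * (c * a) := by group
      _ = c * a * w * (a * c) := by rw [hac]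
      _ = c * (a * w * a) * c := by group
      _ = c * w⁻¹ * c := by rw [hw_inv]
      _ = (c * w * c)⁻¹ := by simp [cinv, mul_assoc]⟩
  have hwc : c * w * c = w⁻¹ := by
    by_cases hw1 : w = 1
    · rw [hw1, mul_one, c2, inv_one]
    haveI : Fact (Nat.Prime 3) := ⟨Nat.prime_three⟩
    have hzw : Subgroup.zpowers w = I := by
      refine Subgroup.eq_of_le_of_card_ge (Subgroup.zpowers_le.2 ⟨hwM, hw_inv⟩) ?_
      rw [Nat.card_zpowers, orderOf_eq_prime (h.cube w hwM) hw1]
      exact hIcard
    rw [← hzw] at hcw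
    obtain ⟨n, hn⟩ := Subgroup.mem_zpowers_iff.1 hcw
    have hw3 : w ^ (3 : ℤ) = 1 := by exact_mod_cast h.cube w hwM
    obtain ⟨r, q, hr, rfl⟩ : ∃ r q : ℤ, (r = 0 ∨ r = 1 ∨ r = 2) ∧ n = r + 3 * q :=
      ⟨n % 3, n / 3, by omega, by omega⟩
    rw [zpow_add, zpow_mul, hw3, one_zpow, mul_one] at hn
    rcases hr with rfl | rfl | rfl
    · exfalso
      rw [zpow_zero] at hn
      apply hw1
      calc w = c * c * w * (c * c) := by rw [c2]; group
        _ = c * (c * w * c) * c := by group
        _ = 1 := by rw [← hn, mul_one, c2]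
    · exfalso
      rw [zpow_one] at hn
      exact hw1 (hFI w (hFc w hwM hn.symm) ⟨hwM, hw_inv⟩)
    · rw [← hn]
      refine eq_inv_of_mul_eq_one_left ?_
      rw [← zpow_add_one, show (2 : ℤ) + 1 = 3 from rfl, hw3]
  set v := m * (a * m * a) with hv
  have hvF : v ∈ F := by
    refine (memF v).2 ⟨mul_mem hm (ca m hm), ?_⟩
    calc a * v = a * v * (a * a) := by rw [a2, mul_one]
      _ = (a * m * a) * (a * a) * (m * (a * a)) * a := by rw [hv]; simp [mul_assoc, a2]
      _ = (a * m * a) * m * a := by rw [a2, mul_one, mul_one]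
      _ = v * a := by rw [hv, h.comm hm (ca m hm)]
  have hcv : c * v * c = v := by
    rw [← hxz] at hvF
    obtain ⟨n, hn'⟩ := Subgroup.mem_zpowers_iff.1 hvF
    have : Commute c x := by
      show c * x = x * c
      calc c * x = c * x * (c * c) := by rw [c2, mul_one]
        _ = c * x * c * c := by group
        _ = x * c := by rw [← hn]
    rw [← hn', (this.zpow_right n).eq, mul_assoc, c2, mul_one]
  have hmv : m = (v * w) * (v * w) := by
    have hcomm := h.comm hm (ca m hm)
    have hvw : v * w = m * m := by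
      rw [hv, hw, hcomm, mul_assoc, ← mul_assoc m m, ← mul_assoc (a * m * a),
        h.comm (ca m hm) (mul_mem hm hm)]
      group
    rw [hvw]
    calc m = m ^ 3 * m := by rw [h.cube m hm, one_mul]
      _ = m * m * (m * m) := by simp [pow_succ, mul_assoc]
  have key : ∀ s : G, s * s = 1 → s * m * s = (s * v * s * (s * w * s)) * (s * v * s * (s * w * s)) := by
    intro s s2
    have hs : s⁻¹ = s := inv_eq_of_mul_eq_one_right s2
    conv_lhs => rw [hmv]
    simp only [mul_assoc]
    simp only [← mul_assoc s s, s2, one_mul]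
  rw [key a a2, key c c2, hw_inv, hwc, hcv]
  have hav : a * v * a = v := by
    rw [((memF v).1 hvF).2, mul_assoc, a2, mul_one]
  rw [hav]

/-- The normalizer is isomorphic to the model. -/
theorem nonempty_iso (hS : ∀ S : Sylow 2 N, Nonempty ((S : Subgroup N) ≃* DihedralGroup 4)) :
    Nonempty (N ≃* W) := by
  obtain ⟨S, a, b, x, ⟨aN, bN, xM⟩, hgen, ⟨a2, b2, hac⟩, ⟨hax, hcx⟩, hx1⟩ := h.exists_basis hS
  set c := b * a * b with hc
  set u := b * x * b with hu
  have binv : b⁻¹ = b := inv_eq_of_mul_eq_one_right b2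
  have uM : u ∈ (M : Subgroup G) := by
    have := h.conj_mem bN xM
    rwa [binv] at this
  have c2 : c * c = 1 := by
    calc c * c = b * a * (b * b) * a * b := by rw [hc]; group
      _ = 1 := by rw [b2, mul_one, mul_assoc b a a, a2, mul_one, b2]
  have hau : a * u * a = u⁻¹ := by
    have := congrArg (fun z => b * z * b) hcx
    rw [hu, mul_inv_rev, mul_inv_rev, binv, ← mul_assoc]
    rw [← mul_assoc b x⁻¹ b, ← this, hc]
    calc a * (b * x) * b * a = b * b * a * b * x * b * a * (b * b) := by rw [b2]; group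
      _ = b * (b * a * b * x * (b * a * b)) * b := by group
  have hcu : c * u = u * c := by
    rw [hc, hu]
    calc b * a * b * (b * x * b) = b * a * (b * b) * x * b := by group
      _ = b * (a * x) * b := by rw [b2]; group
      _ = b * x * (a * b) := by rw [hax]; group
      _ = b * x * (b * b) * (a * b) := by rw [b2, mul_one]
      _ = b * x * b * (b * a * b) := by group
  have hbc : b * c * b = a := by
    rw [hc]
    calc b * (b * a * b) * b = b * b * a * (b * b) := by group
      _ = a := by rw [b2]; group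
  have hbu : b * u * b = x := by
    rw [hu]
    calc b * (b * x * b) * b = b * b * x * (b * b) := by group
      _ = x := by rw [b2]; group
  let dA := dihHom x c (h.cube x xM) c2 hcx
  let dB := dihHom u a (h.cube u uM) a2 hau
  have hcomm : ∀ p q, Commute (dA p) (dB q) :=
    dihHom_commute _ _ _ _ _ _ (h.comm xM uM) hax.symm hcu hac.symm
  have hb1 : ∀ p, b * dA p = dB p * b := dihHom_conj _ _ _ _ _ _ b2 rfl hbc
  have hb2 : ∀ p, b * dB p = dA p * b := dihHom_conj _ _ _ _ _ _ b2 hbu rfl
  let f : W → G := fun w => dA w.a * dB w.b * if w.s then b else 1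
  have hf : ∀ v w, f (v * w) = f v * f w := by
    rintro ⟨p, q, s⟩ ⟨p', q', s'⟩
    cases s
    · have e1 : dA (p * p') * dB (q * q') = dA p * dB q * (dA p' * dB q') := by
        rw [map_mul, map_mul, (hcomm p' q).symm.mul_mul_mul_comm]
      simp only [f, mul_def, Bool.false_eq_true, if_false, mul_one, Bool.false_xor]
      rw [e1]
      simp only [mul_assoc]
    · have e2 : b * (dA p' * dB q') = dA q' * dB p' * b := by
        rw [← mul_assoc, hb1, mul_assoc, hb2, ← mul_assoc, ← (hcomm q' p').eq]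
      have e1 : dA (p * q') * dB (q * p') = dA p * dB q * (dA q' * dB p') := by
        rw [map_mul, map_mul, (hcomm q' q).symm.mul_mul_mul_comm]
      simp only [f, mul_def, if_true, Bool.true_xor]
      rw [e1]
      have e3 : (if (!s') = true then b else 1) = b * if s' = true then b else 1 := by
        cases s' <;> simp [b2]
      rw [e3, mul_assoc (dA p * dB q) b, ← mul_assoc b (dA p' * dB q'), e2]
      simp only [mul_assoc]
  have hmem : ∀ w, f w ∈ N := fun w => by
    have cN : c ∈ N := mul_mem (mul_mem bN aN) bN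
    refine mul_mem (mul_mem (dihHom_mem _ _ _ (h.le xM) cN _) (dihHom_mem _ _ _ (h.le uM) aN _)) ?_
    split <;> [exact bN; exact one_mem _]
  let φ : W →* N := MonoidHom.mk' (fun w => ⟨f w, hmem w⟩) fun v w => Subtype.ext (hf v w)
  let R : Subgroup G := φ.range.map N.subtype
  have hR : ∀ w, f w ∈ R := fun w => ⟨φ w, ⟨w, rfl⟩, rfl⟩
  have haR : a ∈ R := by
    have := hR ⟨1, .sr 0, false⟩
    have e1 : dA 1 = 1 := map_one _
    have e2 : dB (.sr 0) = a := by
      show a * u ^ (0 : ZMod 3).val = a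
      rw [ZMod.val_zero, pow_zero, mul_one]
    change dA 1 * dB (.sr 0) * (if false = true then b else 1) ∈ R at this
    rw [e1, e2, if_neg Bool.false_ne_true, one_mul, mul_one] at this
    exact this
  have hbR : b ∈ R := by
    have := hR ⟨1, 1, true⟩
    simpa [f, dB, dA] using this
  have hxR : x ∈ R := by
    have := hR ⟨.r 1, 1, false⟩
    have e1 : dB 1 = 1 := map_one _
    have e2 : dA (.r 1) = x := by
      show x ^ (1 : ZMod 3).val = x
      rw [ZMod.val_one, pow_one]
    change dA (.r 1) * dB 1 * (if false = true then b else 1) ∈ R at this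
    rw [e1, e2, if_neg Bool.false_ne_true, mul_one, mul_one] at this
    exact this
  have huR : u ∈ R := mul_mem (mul_mem hbR hxR) hbR
  have h8 : 8 ∣ Nat.card R := by
    have hle := Subgroup.card_dvd_of_le (hgen R haR hbR)
    rw [Subgroup.card_map_of_injective N.subtype_injective] at hle
    obtain ⟨e⟩ := hS S
    rwa [Nat.card_congr e.toEquiv, DihedralGroup.nat_card] at hle
  have h9 : 9 ∣ Nat.card R := by
    haveI : Fact (Nat.Prime 3) := ⟨Nat.prime_three⟩
    let K := Subgroup.closure ({x, u} : Set G)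
    have hKR : K ≤ R := (Subgroup.closure_le _).2 (by
      rintro y (rfl | rfl)
      exacts [hxR, huR])
    have hKM : K ≤ (M : Subgroup G) := (Subgroup.closure_le _).2 (by
      rintro y (rfl | rfl)
      exacts [xM, uM])
    have hd : Nat.card K ∣ 3 ^ 2 := by
      have := Subgroup.card_dvd_of_le hKM
      rwa [h.card] at this
    obtain ⟨i, hi, hcard⟩ := (Nat.dvd_prime_pow Nat.prime_three).1 hd
    interval_cases i
    · exfalso
      exact hx1 (Subgroup.mem_bot.1 (Subgroup.eq_bot_of_card_eq K hcard ▸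
        Subgroup.subset_closure (by simp : x ∈ ({x, u} : Set G))))
    · exfalso
      have hz : Subgroup.zpowers x = K := by
        refine Subgroup.eq_of_le_of_card_ge
          (Subgroup.zpowers_le.2 (Subgroup.subset_closure (by simp))) ?_
        rw [hcard, Nat.card_zpowers, orderOf_eq_prime (h.cube x xM) hx1, pow_one]
      have huz : u ∈ Subgroup.zpowers x := hz ▸ Subgroup.subset_closure (by simp)
      obtain ⟨n, hn⟩ := Subgroup.mem_zpowers_iff.1 huz
      have e : a * u = u * a := by
        rw [← hn]; exact (Commute.zpow_right (show Commute a x from hax) n).eq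
      have e' : u = u⁻¹ := by
        rw [← hau, e, mul_assoc, a2, mul_one]
      have hu1 : u = 1 := by
        calc u = u ^ 3 * (u * u)⁻¹ := by group
          _ = (u * u⁻¹)⁻¹ := by rw [h.cube u uM, one_mul]; nth_rw 2 [e']
          _ = 1 := by group
      apply hx1
      rw [← hbu, hu1, mul_one, b2]
    · rw [show (9 : ℕ) = 3 ^ 2 from rfl, ← hcard]
      exact Subgroup.card_dvd_of_le hKR
  have hcardN := h.card_N hS
  have htop : φ.range = ⊤ := by
    refine Subgroup.eq_top_of_card_eq _ ?_
    rw [hcardN, ← Subgroup.card_map_of_injective (K := φ.range) N.subtype_injective]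
    refine Nat.dvd_antisymm ?_ (Nat.Coprime.mul_dvd_of_dvd_of_dvd (by norm_num) h8 h9)
    rw [← hcardN]
    exact Subgroup.card_dvd_of_le (Subgroup.map_subtype_le _)
  have hbij : Function.Bijective φ := by
    rw [Nat.bijective_iff_surjective_and_card]
    exact ⟨MonoidHom.range_eq_top.1 htop, by rw [hcardN, Nat.card_eq_fintype_card, card_W]⟩
  exact ⟨(MulEquiv.ofBijective φ hbij).symm⟩

end Nine'

end Cfsg.Agent.Lib.Higman9
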