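import Mathlib
import Cfsg.Agent.Lib.Higman9.Structure
import Cfsg.Agent.Lib.Higman3.TI

/-!
The elements of order three and six of the normalizer are controlled by it; the two kinds of
involutions centralizing elements of order three are not fused.
-/

set_option autoImplicit false

namespace Cfsg.Agent.Lib.Higman9

open Cfsg Cfsg.Agent.Lib

variable {G : Type*} [Group G]

/-- The elements of `N` of order three or six. -/
def sqSet (N M : Subgroup G) : Set G := {g | g ∈ N ∧ g * g ∈ M ∧ g * g ≠ 1}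

/-- What is known about the normalizer. -/
structure Ctx (M : Sylow 3 G) (N : Subgroup G) (e : N ≃* W) : Prop where
  nine : Nine' M N
  cent : ∀ g ∈ (M : Subgroup G), g ≠ 1 → Subgroup.centralizer ({g} : Set G) ≤ N

variable {M : Sylow 3 G} {N : Subgroup G} {e : N ≃* W}

theorem one_not_mem_sqSet : (1 : G) ∉ sqSet N (M : Subgroup G) := fun h => h.2.2 (mul_one 1)

namespace Ctx

variable [Finite G] (C : Ctx M N e)

include C

theorem mem_of_three_power {y : G} (hy : y ∈ N) {k : ℕ} (hk : y ^ 3 ^ k = 1) :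
    y ∈ (M : Subgroup G) := by
  have hcard : Nat.card N = 72 := by
    rw [Nat.card_congr e.toEquiv, Nat.card_eq_fintype_card, card_W]
  let Mn : Subgroup N := (M : Subgroup G).subgroupOf N
  haveI : Mn.Normal := ⟨fun n hn g => C.nine.conj_mem g.2 hn⟩
  have hidx : Mn.index = 8 := by
    have := Subgroup.card_mul_index Mn
    rw [hcard, Nat.card_congr (Subgroup.subgroupOfEquivOfLe C.nine.le).toEquiv, C.nine.card] at this
    omega
  have h8 : (⟨y, hy⟩ : N) ^ 8 ∈ Mn := hidx ▸ Subgroup.pow_index_mem Mn _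
  have hcop : Nat.Coprime 8 (orderOf y) :=
    Nat.Coprime.coprime_dvd_right (orderOf_dvd_of_pow_eq_one hk) (Nat.Coprime.pow_right _ (by norm_num))
  obtain ⟨m, hm⟩ := exists_pow_eq_self_of_coprime hcop
  rw [← hm]
  exact (M : Subgroup G).pow_mem (Subgroup.mem_subgroupOf.1 h8) m

theorem cube_mem {y : G} (hy : y ∈ N) (h3 : y ^ 3 = 1) : y ∈ (M : Subgroup G) :=
  C.mem_of_three_power hy (k := 1) (by rwa [pow_one])

theorem inM_iff (n : N) : InM (e n) ↔ (n : G) ∈ (M : Subgroup G) := by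
  rw [cube_inM]
  constructor
  · intro h
    refine C.cube_mem n.2 ?_
    have : n * n * n = 1 := e.injective (by rw [map_mul, map_mul, map_one]; exact h)
    simpa [pow_succ] using congrArg Subtype.val this
  · intro h
    have : n * n * n = 1 := Subtype.ext (by
      have := C.nine.cube _ h
      simpa [pow_succ] using this)
    rw [← map_mul, ← map_mul, this, map_one]

theorem inX_iff (n : N) : InX (e n) ↔ (n : G) ∈ sqSet N (M : Subgroup G) := by
  rw [InX, ← map_mul, C.inM_iff, Ne, MulEquiv.map_eq_one_iff]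
  constructor
  · rintro ⟨h1, h2⟩
    exact ⟨n.2, h1, fun h => h2 (Subtype.ext h)⟩
  · rintro ⟨-, h1, h2⟩
    exact ⟨h1, fun h => h2 (congrArg Subtype.val h)⟩

theorem controlled : Higman3.ControlledSet N (sqSet N (M : Subgroup G)) where
  subset _ h := h.1
  inv_mem a ha := by
    have e' : a⁻¹ * a⁻¹ = (a * a)⁻¹ := by group
    exact ⟨N.inv_mem ha.1, e' ▸ (M : Subgroup G).inv_mem ha.2.1, fun h => ha.2.2 (by
      rw [e'] at h; exact inv_eq_one.1 h)⟩
  fusion a ha g hg := by
    have hm' : g * (a * a) * g⁻¹ ∈ (M : Subgroup G) ∧ g * (a * a) * g⁻¹ ≠ 1 := by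
      have e' : g * (a * a) * g⁻¹ = g * a * g⁻¹ * (g * a * g⁻¹) := by group
      rw [e']; exact hg.2
    rw [C.nine.norm]
    refine Subgroup.mem_normalizer_fintype fun y hy => C.cube_mem ?_ ?_
    · refine C.cent _ hm'.1 hm'.2 (Subgroup.mem_centralizer_singleton_iff.2 ?_)
      have h := C.nine.comm hy ha.2.1
      calc g * y * g⁻¹ * (g * (a * a) * g⁻¹) = g * (y * (a * a)) * g⁻¹ := by group
        _ = g * (a * a * y) * g⁻¹ := by rw [h]
        _ = g * (a * a) * g⁻¹ * (g * y * g⁻¹) := by group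
    · rw [conj_pow, C.nine.cube y hy, mul_one, mul_inv_cancel]

theorem mem_sqSet_of_mem {y : G} (hy : y ∈ (M : Subgroup G)) (hy1 : y ≠ 1) :
    y ∈ sqSet N (M : Subgroup G) := by
  refine ⟨C.nine.le hy, mul_mem hy hy, fun h => hy1 ?_⟩
  calc y = y ^ 3 * (y * y)⁻¹ := by group
    _ = 1 := by rw [C.nine.cube y hy, h]; group

theorem not_conj {a b : N} (ha : e a = tA) (hb : e b = tB) : ¬IsConj (a : G) b := by
  intro hab
  obtain ⟨g, hg⟩ := isConj_iff.1 hab
  haveI : Fact (Nat.Prime 3) := ⟨by norm_num⟩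
  obtain ⟨⟨hzA, hzB, hzA1, hzB1⟩, ⟨hzAa, hzBb⟩, -⟩ := z_facts
  obtain ⟨z, hz⟩ := e.surjective zA
  obtain ⟨w, hw⟩ := e.surjective zB
  have hzM : (z : G) ∈ (M : Subgroup G) := (C.inM_iff z).1 (by rw [hz]; exact hzA)
  have hwM : (w : G) ∈ (M : Subgroup G) := (C.inM_iff w).1 (by rw [hw]; exact hzB)
  have hz1 : (z : G) ≠ 1 := fun h => hzA1 (by rw [← hz, show z = 1 from Subtype.ext h, map_one])
  have hw1 : (w : G) ≠ 1 := fun h => hzB1 (by rw [← hw, show w = 1 from Subtype.ext h, map_one])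
  let Ca := Subgroup.centralizer ({(a : G)} : Set G)
  have hzC : (z : G) ∈ Ca := Subgroup.mem_centralizer_singleton_iff.2
    (congrArg Subtype.val (e.injective (show e (z * a) = e (a * z) by
      rw [map_mul, map_mul, hz, ha, hzAa]) : z * a = a * z))
  have hwb' : (w : G) * b = b * w :=
    congrArg Subtype.val (e.injective (show e (w * b) = e (b * w) by
      rw [map_mul, map_mul, hw, hb, hzBb]) : w * b = b * w)
  have hwC : g⁻¹ * w * g ∈ Ca := by
    refine Subgroup.mem_centralizer_singleton_iff.2 ?_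
    calc g⁻¹ * w * g * a = g⁻¹ * (w * (g * a * g⁻¹)) * g := by group
      _ = g⁻¹ * (g * a * g⁻¹ * w) * g := by rw [hg, hwb']
      _ = a * (g⁻¹ * w * g) := by group
  have hzpow : IsPGroup 3 (Subgroup.zpowers (⟨z, hzC⟩ : Ca)) := by
    refine IsPGroup.of_card (n := 1) ?_
    rw [Nat.card_zpowers, pow_one]
    exact orderOf_eq_prime (Subtype.ext (C.nine.cube _ hzM)) fun h => hz1 (congrArg Subtype.val h :)
  obtain ⟨P, hzP⟩ := hzpow.exists_le_sylow
  replace hzP : (⟨z, hzC⟩ : Ca) ∈ P := hzP (Subgroup.mem_zpowers _)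
  have key : ∀ y : Ca, y ∈ P → (y : G) * z = z * y →
      (y : G) = 1 ∨ (y : G) = z ∨ (y : G) = z * z := by
    intro y hy hyz
    have hyN : (y : G) ∈ N := C.cent _ hzM hz1 (Subgroup.mem_centralizer_singleton_iff.2 hyz)
    obtain ⟨k, hk⟩ := P.2 ⟨y, hy⟩
    have hyM : (y : G) ∈ (M : Subgroup G) := C.mem_of_three_power hyN (k := k)
      (congrArg (fun x : (P : Subgroup Ca) => ((x : Ca) : G)) hk :)
    have hya : (y : G) * a = a * y := Subgroup.mem_centralizer_singleton_iff.1 y.2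
    rcases three_cent (e ⟨y, hyN⟩) ((C.inM_iff _).2 hyM)
        (by rw [← ha, ← map_mul, ← map_mul]; exact congrArg e (Subtype.ext hya)) with h | h | h
    · exact Or.inl (congrArg Subtype.val (e.injective (h.trans (map_one e).symm)) :)
    · exact Or.inr (Or.inl (congrArg Subtype.val (e.injective (h.trans hz.symm)) :))
    · exact Or.inr (Or.inr (congrArg Subtype.val
        (e.injective (h.trans (by rw [map_mul, hz]) : e ⟨y, hyN⟩ = e (z * z))) :))
  have hcent : ∀ y : Ca, y ∈ P → (y : G) * z = z * y := by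
    haveI : Nontrivial (P : Subgroup Ca) :=
      ⟨⟨⟨_, hzP⟩, 1, fun h => hz1 (congrArg (fun x : (P : Subgroup Ca) => ((x : Ca) : G)) h :)⟩⟩
    haveI := P.2.center_nontrivial
    obtain ⟨⟨y, hy⟩, hy1⟩ := exists_ne (1 : Subgroup.center (P : Subgroup Ca))
    have hcomm : ∀ x : Ca, x ∈ P → (x : G) * ((y : Ca) : G) = ((y : Ca) : G) * x := fun x hx =>
      congrArg (fun x : (P : Subgroup Ca) => ((x : Ca) : G)) (Subgroup.mem_center_iff.1 hy ⟨x, hx⟩)
    intro x hx
    rcases key y y.2 ((hcomm _ hzP).symm) with h | h | h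
    · exact absurd (Subtype.ext (Subtype.ext (Subtype.ext h))) hy1
    · have := hcomm x hx
      rwa [h] at this
    · have h' := hcomm x hx
      rw [h] at h'
      have h3 := C.nine.cube _ hzM
      have hzz : (z : G) = (z * z) * (z * z) := by
        calc (z : G) = z ^ 3 * z := by rw [h3, one_mul]
          _ = z * z * (z * z) := by simp [pow_succ, mul_assoc]
      rw [hzz, ← mul_assoc, h', mul_assoc, h', ← mul_assoc]
  have hPle : ∀ y : Ca, y ∈ P → (y : G) = 1 ∨ (y : G) = z ∨ (y : G) = z * z := fun y hy =>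
    key y hy (hcent y hy)
  have hw'pow : IsPGroup 3 (Subgroup.zpowers (⟨g⁻¹ * w * g, hwC⟩ : Ca)) := by
    refine IsPGroup.of_card (n := 1) ?_
    rw [Nat.card_zpowers, pow_one]
    refine orderOf_eq_prime (Subtype.ext ?_) fun h => hw1 ?_
    · show (g⁻¹ * (w : G) * g) ^ 3 = 1
      calc (g⁻¹ * (w : G) * g) ^ 3 = g⁻¹ * (w : G) ^ 3 * g := by simp [pow_succ, mul_assoc]
        _ = 1 := by rw [C.nine.cube _ hwM]; group
    · calc (w : G) = g * (g⁻¹ * w * g) * g⁻¹ := by group
        _ = 1 := by rw [show g⁻¹ * (w : G) * g = 1 from congrArg Subtype.val h]; group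
  obtain ⟨Q, hQ⟩ := hw'pow.exists_le_sylow
  obtain ⟨c, hc⟩ := MulAction.exists_smul_eq Ca Q P
  have hmem : c * ⟨g⁻¹ * w * g, hwC⟩ * c⁻¹ ∈ P := by
    rw [← hc]
    exact ⟨_, hQ (Subgroup.mem_zpowers _), rfl⟩
  have hv := hPle _ hmem
  set x : G := (c : G) * g⁻¹ with hx
  have hxe : ((c * ⟨g⁻¹ * w * g, hwC⟩ * c⁻¹ : Ca) : G) = x * w * x⁻¹ := by
    rw [hx]; simp [mul_assoc]
  rw [hxe] at hv
  rcases hv with h | h | h
  · exact hw1 (by
      calc (w : G) = x⁻¹ * (x * w * x⁻¹) * x := by group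
        _ = 1 := by rw [h]; group)
  · have hxN : x ∈ N := C.controlled.fusion _ (C.mem_sqSet_of_mem hwM hw1) x (by
      rw [h]; exact C.mem_sqSet_of_mem hzM hz1)
    have e3 := congrArg e (Subtype.ext (mul_inv_eq_iff_eq_mul.1 h) :
      (⟨x, hxN⟩ : N) * w = z * ⟨x, hxN⟩)
    rw [map_mul, map_mul, hw, hz] at e3
    exact (z_not_conj _).1 e3
  · have hzz : (z : G) * z ≠ 1 := fun h' => hz1 (by
      calc (z : G) = z ^ 3 * ((z : G) * z)⁻¹ := by group
        _ = 1 := by rw [C.nine.cube _ hzM, h']; group)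
    have hxN : x ∈ N := C.controlled.fusion _ (C.mem_sqSet_of_mem hwM hw1) x (by
      rw [h]; exact C.mem_sqSet_of_mem (mul_mem hzM hzM) hzz)
    have e3 := congrArg e (Subtype.ext (mul_inv_eq_iff_eq_mul.1 h) :
      (⟨x, hxN⟩ : N) * w = z * z * ⟨x, hxN⟩)
    rw [map_mul, map_mul, map_mul, hw, hz] at e3
    exact (z_not_conj _).2 e3

end Ctx

end Cfsg.Agent.Lib.Higman9
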