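import Mathlib

/-!
Four weighted points in the plane with weights and first moments summing to zero: the second
moments determine all distances, and opposite edges are orthogonal.
-/

set_option autoImplicit false

namespace Cfsg.Agent.Lib.Higman9

/-- A symmetric form, by its entries. -/
structure Form where
  /-- The first entry. -/
  r11 : ℚ
  /-- The mixed entry. -/
  r12 : ℚ
  /-- The last entry. -/
  r22 : ℚ

namespace Form

/-- The determinant. -/
def det (F : Form) : ℚ := F.r11 * F.r22 - F.r12 ^ 2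

/-- The adjugate form at two vectors. -/
def bil (F : Form) (d e : ℚ × ℚ) : ℚ :=
  F.r22 * d.1 * e.1 - F.r12 * (d.1 * e.2 + d.2 * e.1) + F.r11 * d.2 * e.2

/-- The adjugate form at a vector. -/
def quad (F : Form) (d : ℚ × ℚ) : ℚ := F.bil d d

/-- The coordinates exchanged. -/
def mirror (F : Form) : Form := ⟨F.r22, F.r12, F.r11⟩

theorem mirror_det (F : Form) : F.mirror.det = F.det := by simp [det, mirror, mul_comm]

theorem mirror_bil (F : Form) (d e : ℚ × ℚ) : F.mirror.bil d e = F.bil d.swap e.swap := by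
  simp only [bil, mirror, Prod.fst_swap, Prod.snd_swap]; ring

end Form

/-- Equal lengths in two forms. -/
def Same (F F' : Form) (d : ℚ × ℚ) : Prop := F.quad d * F'.det = F'.quad d * F.det

/-- Four weighted points with given second moments. -/
structure Simplex (F : Form) (k m₁ m₂ m₃ m₄ : ℚ) (P₁ P₂ P₃ P₄ : ℚ × ℚ) : Prop where
  k_ne : k ≠ 0
  det_ne : F.det ≠ 0
  ne₁ : m₁ ≠ 0
  ne₂ : m₂ ≠ 0
  ne₃ : m₃ ≠ 0
  ne₄ : m₄ ≠ 0
  mass : m₁ + m₂ + m₃ + m₄ = 0
  first₁ : m₁ * P₁.1 + m₂ * P₂.1 + m₃ * P₃.1 + m₄ * P₄.1 = 0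
  first₂ : m₁ * P₁.2 + m₂ * P₂.2 + m₃ * P₃.2 + m₄ * P₄.2 = 0
  aa : m₁ * P₁.1 ^ 2 + m₂ * P₂.1 ^ 2 + m₃ * P₃.1 ^ 2 + m₄ * P₄.1 ^ 2 = k * F.r11
  ab : m₁ * (P₁.1 * P₁.2) + m₂ * (P₂.1 * P₂.2) + m₃ * (P₃.1 * P₃.2) + m₄ * (P₄.1 * P₄.2) =
    k * F.r12
  bb : m₁ * P₁.2 ^ 2 + m₂ * P₂.2 ^ 2 + m₃ * P₃.2 ^ 2 + m₄ * P₄.2 ^ 2 = k * F.r22

namespace Simplex

variable {F : Form} {k m₁ m₂ m₃ m₄ : ℚ} {P₁ P₂ P₃ P₄ : ℚ × ℚ}

theorem swap12 (h : Simplex F k m₁ m₂ m₃ m₄ P₁ P₂ P₃ P₄) :
    Simplex F k m₂ m₁ m₃ m₄ P₂ P₁ P₃ P₄ :=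
  ⟨h.k_ne, h.det_ne, h.ne₂, h.ne₁, h.ne₃, h.ne₄, by linear_combination h.mass,
    by linear_combination h.first₁, by linear_combination h.first₂, by linear_combination h.aa,
    by linear_combination h.ab, by linear_combination h.bb⟩

theorem swap23 (h : Simplex F k m₁ m₂ m₃ m₄ P₁ P₂ P₃ P₄) :
    Simplex F k m₁ m₃ m₂ m₄ P₁ P₃ P₂ P₄ :=
  ⟨h.k_ne, h.det_ne, h.ne₁, h.ne₃, h.ne₂, h.ne₄, by linear_combination h.mass,
    by linear_combination h.first₁, by linear_combination h.first₂, by linear_combination h.aa,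
    by linear_combination h.ab, by linear_combination h.bb⟩

theorem swap34 (h : Simplex F k m₁ m₂ m₃ m₄ P₁ P₂ P₃ P₄) :
    Simplex F k m₁ m₂ m₄ m₃ P₁ P₂ P₄ P₃ :=
  ⟨h.k_ne, h.det_ne, h.ne₁, h.ne₂, h.ne₄, h.ne₃, by linear_combination h.mass,
    by linear_combination h.first₁, by linear_combination h.first₂, by linear_combination h.aa,
    by linear_combination h.ab, by linear_combination h.bb⟩

/-- The lengths and angles at the fourth point. -/
theorem at_four (h : Simplex F k m₁ m₂ m₃ m₄ P₁ P₂ P₃ P₄) :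
    F.quad (P₁ - P₄) * (m₁ * m₄) = k * F.det * (m₁ + m₄) ∧
      F.bil (P₁ - P₄) (P₂ - P₄) * m₄ = k * F.det ∧ F.bil (P₁ - P₄) (P₂ - P₃) = 0 := by
  obtain ⟨hk, -, n1, n2, n3, n4, hm, hu, hv, haa, hab, hbb⟩ := h
  obtain ⟨p1, q1⟩ := P₁
  obtain ⟨p2, q2⟩ := P₂
  obtain ⟨p3, q3⟩ := P₃
  obtain ⟨p4, q4⟩ := P₄
  simp only at hu hv haa hab hbb
  obtain ⟨x1, rfl⟩ : ∃ x, p1 = x + p4 := ⟨p1 - p4, by ring⟩
  obtain ⟨y1, rfl⟩ : ∃ x, q1 = x + q4 := ⟨q1 - q4, by ring⟩
  obtain ⟨x2, rfl⟩ : ∃ x, p2 = x + p4 := ⟨p2 - p4, by ring⟩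
  obtain ⟨y2, rfl⟩ : ∃ x, q2 = x + q4 := ⟨q2 - q4, by ring⟩
  obtain ⟨x3, rfl⟩ : ∃ x, p3 = x + p4 := ⟨p3 - p4, by ring⟩
  obtain ⟨y3, rfl⟩ : ∃ x, q3 = x + q4 := ⟨q3 - q4, by ring⟩
  have ex : x3 = -(m₁ * x1 + m₂ * x2) / m₃ := by
    rw [eq_div_iff n3]; linear_combination hu - p4 * hm
  have ey : y3 = -(m₁ * y1 + m₂ * y2) / m₃ := by
    rw [eq_div_iff n3]; linear_combination hv - q4 * hm
  have e11 : F.r11 = (m₁ * x1 ^ 2 + m₂ * x2 ^ 2 + (m₁ * x1 + m₂ * x2) ^ 2 / m₃) / k := by
    rw [eq_div_iff hk, show (m₁ * x1 + m₂ * x2) ^ 2 / m₃ = m₃ * x3 ^ 2 by rw [ex]; field_simp]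
    linear_combination -haa + 2 * p4 * hu - p4 ^ 2 * hm
  have e12 : F.r12 = (m₁ * (x1 * y1) + m₂ * (x2 * y2) +
      (m₁ * x1 + m₂ * x2) * (m₁ * y1 + m₂ * y2) / m₃) / k := by
    rw [eq_div_iff hk, show (m₁ * x1 + m₂ * x2) * (m₁ * y1 + m₂ * y2) / m₃ = m₃ * (x3 * y3) by
      rw [ex, ey]; field_simp]
    linear_combination -hab + q4 * hu + p4 * hv - p4 * q4 * hm
  have e22 : F.r22 = (m₁ * y1 ^ 2 + m₂ * y2 ^ 2 + (m₁ * y1 + m₂ * y2) ^ 2 / m₃) / k := by
    rw [eq_div_iff hk, show (m₁ * y1 + m₂ * y2) ^ 2 / m₃ = m₃ * y3 ^ 2 by rw [ey]; field_simp]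
    linear_combination -hbb + 2 * q4 * hv - q4 ^ 2 * hm
  have e4 : m₄ = -(m₁ + m₂ + m₃) := by linarith
  simp only [Form.quad, Form.bil, Form.det, Prod.fst_sub, Prod.snd_sub, e11, e12, e22, ex, ey, e4]
  refine ⟨?_, ?_, ?_⟩ <;> field_simp <;> ring

end Simplex

/-- The conditions on the forms of the four vectors. -/
structure Nice (FA FG FB FD : Form) : Prop where
  detA : FA.det ≠ 0
  detG : FG.det ≠ 0
  detB : FB.det ≠ 0
  detD : FD.det ≠ 0
  opp : ∀ d e, Same FA FG d → Same FA FD e → FA.bil d e = 0 → FA.quad d = 0 ∨ FA.quad e = 0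
  opp' : ∀ d e, Same FG FA d → Same FG FB e → FG.bil d e = 0 → FG.quad d = 0 ∨ FG.quad e = 0
  three : (∀ d, Same FG FD d) ∨ ∀ d, Same FG FB d → Same FG FD d → FG.quad d = 0
  three' : (∀ d, Same FA FB d) ∨ ∀ d, Same FA FD d → Same FA FB d → FA.quad d = 0
  angles : ∀ d e h, Same FA FG d → Same FA FD e → Same FB FD h →
    (∃ n l : ℤ, ¬(27 : ℤ) ∣ l - 9 * n ∧ (l : ℚ) * FA.bil d e ^ 2 = n * (FA.quad d * FA.quad e)) ∨
    (∃ n l : ℤ, ¬(27 : ℤ) ∣ l - 9 * n ∧ (l : ℚ) * FD.bil e h ^ 2 = n * (FD.quad e * FD.quad h)) ∨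
    (9 * FA.bil d e ^ 2 = FA.quad d * FA.quad e ∧ 9 * FD.bil e h ^ 2 = FD.quad e * FD.quad h)

theorem same_mirror {F F' : Form} {d : ℚ × ℚ} : Same F.mirror F'.mirror d ↔ Same F F' d.swap := by
  simp [Same, Form.quad, Form.mirror_det, Form.mirror_bil]

theorem nice_plain : Nice ⟨2, 0, 1⟩ ⟨1, 0, 2⟩ ⟨2, 0, 1⟩ ⟨1, 0, 2⟩ := by
  refine ⟨by norm_num [Form.det], by norm_num [Form.det], by norm_num [Form.det],
    by norm_num [Form.det], ?_, ?_, Or.inl fun d => rfl, Or.inl fun d => rfl, ?_⟩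
  all_goals simp only [Same, Form.quad, Form.bil, Form.det]
  · rintro ⟨x, y⟩ ⟨u, v⟩ h1 h2 h3
    simp only at h1 h2 h3 ⊢
    have e1 : (y - x) * (y + x) = 0 := by linear_combination h1 / 2
    have e2 : (v - u) * (v + u) = 0 := by linear_combination h2 / 2
    rcases mul_eq_zero.1 e1 with e | e <;> rcases mul_eq_zero.1 e2 with e' | e' <;>
      simp only [sub_eq_zero, add_eq_zero_iff_eq_neg] at e e' <;> rw [e, e'] at h3 ⊢ <;>
      · have : x * u = 0 := by linarith
        rcases mul_eq_zero.1 this with rfl | rfl <;> simp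
  · rintro ⟨x, y⟩ ⟨u, v⟩ h1 h2 h3
    simp only at h1 h2 h3 ⊢
    have e1 : (y - x) * (y + x) = 0 := by linear_combination -h1 / 2
    have e2 : (v - u) * (v + u) = 0 := by linear_combination -h2 / 2
    rcases mul_eq_zero.1 e1 with e | e <;> rcases mul_eq_zero.1 e2 with e' | e' <;>
      simp only [sub_eq_zero, add_eq_zero_iff_eq_neg] at e e' <;> rw [e, e'] at h3 ⊢ <;>
      · have : x * u = 0 := by linarith
        rcases mul_eq_zero.1 this with rfl | rfl <;> simp
  · rintro ⟨x, y⟩ ⟨u, v⟩ ⟨s, w⟩ h1 h2 h3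
    simp only at h1 h2 h3 ⊢
    have e1 : (y - x) * (y + x) = 0 := by linear_combination h1 / 2
    have e2 : (v - u) * (v + u) = 0 := by linear_combination h2 / 2
    have e3 : (w - s) * (w + s) = 0 := by linear_combination h3 / 2
    rcases mul_eq_zero.1 e1 with e | e <;> rcases mul_eq_zero.1 e2 with e' | e' <;>
      rcases mul_eq_zero.1 e3 with e'' | e'' <;>
      simp only [sub_eq_zero, add_eq_zero_iff_eq_neg] at e e' e'' <;> rw [e, e', e''] <;>
      first
        | (refine Or.inl ⟨1, 1, by norm_num, ?_⟩; push_cast; linear_combination (0 : ℚ))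
        | (refine Or.inr (Or.inl ⟨1, 1, by norm_num, ?_⟩); push_cast; linear_combination (0 : ℚ))
        | (refine Or.inr (Or.inr ⟨?_, ?_⟩) <;> linear_combination (0 : ℚ))

theorem nice_fusedA : Nice ⟨11, 3, 1⟩ ⟨16, 0, 2⟩ ⟨11, -3, 1⟩ ⟨4, 0, 2⟩ := by
  refine ⟨by norm_num [Form.det], by norm_num [Form.det], by norm_num [Form.det],
    by norm_num [Form.det], ?_, ?_, Or.inr ?_, Or.inr ?_, ?_⟩
  all_goals simp only [Same, Form.quad, Form.bil, Form.det]
  · rintro ⟨x, y⟩ ⟨u, v⟩ h1 h2 h3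
    simp only at h1 h2 h3 ⊢
    have e1 : (x - 4 * y) * (7 * x - 20 * y) = 0 := by linear_combination h1 / 4
    have e2 : (u - 2 * v) * (u - 10 * v) = 0 := by linear_combination h2 / 4
    rcases mul_eq_zero.1 e1 with e | e <;> rcases mul_eq_zero.1 e2 with e' | e'
    · obtain rfl : x = 4 * y := by linarith
      obtain rfl : u = 2 * v := by linarith
      have : y * v = 0 := by linarith
      rcases mul_eq_zero.1 this with rfl | rfl
      · left; ring
      · right; ring
    · obtain rfl : x = 4 * y := by linarith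
      obtain rfl : u = 10 * v := by linarith
      have : y * v = 0 := by linarith
      rcases mul_eq_zero.1 this with rfl | rfl
      · left; ring
      · right; ring
    · obtain rfl : x = (20 / 7) * y := by linarith
      obtain rfl : u = 2 * v := by linarith
      have : y * v = 0 := by linarith
      rcases mul_eq_zero.1 this with rfl | rfl
      · left; ring
      · right; ring
    · obtain rfl : x = (20 / 7) * y := by linarith
      obtain rfl : u = 10 * v := by linarith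
      have : y * v = 0 := by linarith
      rcases mul_eq_zero.1 this with rfl | rfl
      · left; ring
      · right; ring
  · rintro ⟨x, y⟩ ⟨u, v⟩ h1 h2 h3
    simp only at h1 h2 h3 ⊢
    have e1 : (x - 4 * y) * (7 * x - 20 * y) = 0 := by linear_combination -h1 / 4
    have e2 : (u + 4 * v) * (7 * u + 20 * v) = 0 := by linear_combination -h2 / 4
    rcases mul_eq_zero.1 e1 with e | e <;> rcases mul_eq_zero.1 e2 with e' | e'
    · obtain rfl : x = 4 * y := by linarith
      obtain rfl : u = (-4) * v := by linarith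
      have : y * v = 0 := by linarith
      rcases mul_eq_zero.1 this with rfl | rfl
      · left; ring
      · right; ring
    · obtain rfl : x = 4 * y := by linarith
      obtain rfl : u = (-(20 / 7)) * v := by linarith
      have : y * v = 0 := by linarith
      rcases mul_eq_zero.1 this with rfl | rfl
      · left; ring
      · right; ring
    · obtain rfl : x = (20 / 7) * y := by linarith
      obtain rfl : u = (-4) * v := by linarith
      have : y * v = 0 := by linarith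
      rcases mul_eq_zero.1 this with rfl | rfl
      · left; ring
      · right; ring
    · obtain rfl : x = (20 / 7) * y := by linarith
      obtain rfl : u = (-(20 / 7)) * v := by linarith
      have : y * v = 0 := by linarith
      rcases mul_eq_zero.1 this with rfl | rfl
      · left; ring
      · right; ring
  · rintro ⟨x, y⟩ h1 h2
    simp only at h1 h2 ⊢
    obtain rfl : x = 0 := by
      have : x * x = 0 := by linear_combination -h2 / 48
      exact mul_self_eq_zero.1 this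
    have : y * y = 0 := by linear_combination -h1 / 320
    rw [mul_self_eq_zero.1 this]; ring
  · rintro ⟨x, y⟩ h1 h2
    simp only at h1 h2 ⊢
    have e2 : x * y = 0 := by linear_combination -h2 / 24
    have e1 : (x - 2 * y) * (x - 10 * y) = 0 := by linear_combination h1 / 4
    rcases mul_eq_zero.1 e2 with rfl | rfl
    · have : y * y = 0 := by linear_combination e1 / 20
      rw [mul_self_eq_zero.1 this]; ring
    · have : x * x = 0 := by linear_combination e1
      rw [mul_self_eq_zero.1 this]; ring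
  · rintro ⟨x, y⟩ ⟨u, v⟩ ⟨s, w⟩ h1 h2 h3
    simp only at h1 h2 h3 ⊢
    have e1 : (x - 4 * y) * (7 * x - 20 * y) = 0 := by linear_combination h1 / 4
    have e2 : (u - 2 * v) * (u - 10 * v) = 0 := by linear_combination h2 / 4
    have e3 : (s + 2 * w) * (s + 10 * w) = 0 := by linear_combination h3 / 4
    rcases mul_eq_zero.1 e1 with e | e
    · obtain rfl : x = 4 * y := by linarith
      rcases mul_eq_zero.1 e2 with e' | e'
      · obtain rfl : u = 2 * v := by linarith
        rcases mul_eq_zero.1 e3 with e'' | e''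
        · obtain rfl : s = -2 * w := by linarith
          exact Or.inr (Or.inr ⟨by ring, by ring⟩)
        · obtain rfl : s = -10 * w := by linarith
          exact Or.inr (Or.inl ⟨9, 17, by norm_num, by push_cast; ring⟩)
      · obtain rfl : u = 10 * v := by linarith
        exact Or.inl ⟨9, 17, by norm_num, by push_cast; ring⟩
    · obtain rfl : x = 20 / 7 * y := by linarith
      rcases mul_eq_zero.1 e2 with e' | e'
      · obtain rfl : u = 2 * v := by linarith
        exact Or.inl ⟨25, 33, by norm_num, by push_cast; ring⟩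
      · obtain rfl : u = 10 * v := by linarith
        exact Or.inl ⟨49, 5049, by norm_num, by push_cast; ring⟩

theorem nice_fusedB : Nice ⟨2, 0, 16⟩ ⟨1, 3, 11⟩ ⟨2, 0, 4⟩ ⟨1, -3, 11⟩ := by
  have h := nice_fusedA
  have hs : ∀ F F' : Form, ∀ d, Same F.mirror F'.mirror d → Same F F' d.swap := fun _ _ _ =>
    same_mirror.1
  have hq : ∀ (F : Form) d, F.mirror.quad d = F.quad d.swap := fun F d => F.mirror_bil d d
  show Nice (Form.mirror ⟨16, 0, 2⟩) (Form.mirror ⟨11, 3, 1⟩) (Form.mirror ⟨4, 0, 2⟩)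
    (Form.mirror ⟨11, -3, 1⟩)
  refine ⟨by rw [Form.mirror_det]; exact h.detG, by rw [Form.mirror_det]; exact h.detA,
    by rw [Form.mirror_det]; exact h.detD, by rw [Form.mirror_det]; exact h.detB, ?_, ?_, ?_, ?_, ?_⟩
  · intro d e h1 h2 h3
    rw [Form.mirror_bil] at h3
    rw [hq, hq]
    exact h.opp' _ _ (hs _ _ _ h1) (hs _ _ _ h2) h3
  · intro d e h1 h2 h3
    rw [Form.mirror_bil] at h3
    rw [hq, hq]
    exact h.opp _ _ (hs _ _ _ h1) (hs _ _ _ h2) h3
  · rcases h.three' with h' | h'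
    · exact Or.inl fun d => same_mirror.2 (h' _)
    · exact Or.inr fun d h1 h2 => by rw [hq]; exact h' _ (hs _ _ _ h1) (hs _ _ _ h2)
  · rcases h.three with h' | h'
    · exact Or.inl fun d => same_mirror.2 (h' _)
    · exact Or.inr fun d h1 h2 => by rw [hq]; exact h' _ (hs _ _ _ h1) (hs _ _ _ h2)
  · rintro ⟨x, y⟩ ⟨u, v⟩ ⟨s, w⟩ h1 h2 h3
    simp only [Same, Form.quad, Form.bil, Form.det, Form.mirror] at h1 h2 h3 ⊢
    have e1 : (y - 4 * x) * (7 * y - 20 * x) = 0 := by linear_combination -h1 / 4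
    have e2 : (v + 4 * u) * (7 * v + 20 * u) = 0 := by linear_combination -h2 / 4
    have e3 : (w + 2 * s) * (w + 10 * s) = 0 := by linear_combination -h3 / 4
    rcases mul_eq_zero.1 e2 with e' | e'
    · obtain rfl : v = -4 * u := by linarith
      rcases mul_eq_zero.1 e1 with e | e
      · obtain rfl : y = 4 * x := by linarith
        rcases mul_eq_zero.1 e3 with e'' | e''
        · obtain rfl : w = -2 * s := by linarith
          exact Or.inr (Or.inr ⟨by ring, by ring⟩)
        · obtain rfl : w = -10 * s := by linarith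
          exact Or.inr (Or.inl ⟨9, 17, by norm_num, by push_cast; ring⟩)
      · obtain rfl : y = 20 / 7 * x := by linarith
        exact Or.inl ⟨1, 33, by norm_num, by push_cast; ring⟩
    · obtain rfl : v = -(20 / 7) * u := by linarith
      rcases mul_eq_zero.1 e1 with e | e
      · obtain rfl : y = 4 * x := by linarith
        exact Or.inl ⟨1, 33, by norm_num, by push_cast; ring⟩
      · obtain rfl : y = 20 / 7 * x := by linarith
        exact Or.inl ⟨1, 9801, by norm_num, by push_cast; ring⟩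

end Cfsg.Agent.Lib.Higman9
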