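import Mathlib
import Cfsg.Agent.Lib.Higman4.Units
import Cfsg.Agent.Lib.Higman9.Simplex

/-!
Four integer vectors with the given products: they share a unit of degree one away from the
trivial place.
-/

set_option autoImplicit false

namespace Cfsg.Agent.Lib.Higman9

open Cfsg.Agent.Lib.Higman3 (idot idot_eq idot_comm injective_elim one_le_sq)
open Cfsg.Agent.Lib.Higman4 (U3 exists_U3 exists_next)

variable {ι : Type*} [Fintype ι]

theorem idot_cast_rat {κ : Type*} [Fintype κ] {v : ι → ℤ} {c : κ → ℤ}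
    {p : κ → ι} (hv : ∀ w, idot v w = ∑ k, c k * w (p k)) (F : ι → ℚ) :
    ∑ x, (v x : ℚ) * F x = ∑ k, (c k : ℚ) * F (p k) := by
  classical
  have hx : ∀ x, v x = ∑ k, c k * if p k = x then 1 else 0 := fun x => by
    have := hv fun y => if y = x then 1 else 0
    simpa [idot] using this
  simp only [hx, Int.cast_sum, Int.cast_mul, apply_ite (Int.cast : ℤ → ℚ), Int.cast_one,
    Int.cast_zero, Finset.sum_mul]
  rw [Finset.sum_comm]
  exact Finset.sum_congr rfl fun k _ => by simp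

/-- Four units. -/
structure U4 (v : ι → ℤ) (p q r s : ι) : Prop where
  pq : p ≠ q
  pr : p ≠ r
  ps : p ≠ s
  qr : q ≠ r
  qs : q ≠ s
  rs : r ≠ s
  p_sq : v p * v p = 1
  q_sq : v q * v q = 1
  r_sq : v r * v r = 1
  s_sq : v s * v s = 1
  rep : ∀ w, idot v w = v p * w p + v q * w q + v r * w r + v s * w s

theorem exists_U4 {v : ι → ℤ} {p q : ι} (hpq : p ≠ q) (hp : v p * v p = 1) (hq : v q * v q = 1)
    (h : idot v v = 4) : ∃ r s, U4 v p q r s := by
  have hf0 : Function.Injective (fun _ : Unit => p) := fun _ _ _ => rfl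
  have hf1 := injective_elim hf0 (fun _ => hpq : ∀ _ : Unit, p ≠ q)
  obtain ⟨r, hr, hr1⟩ := exists_next _ hf1 (v := v) (k := 2) (by norm_num) (by norm_num)
    (by simp [Fintype.sum_option, hp, hq]; omega)
  have hf2 := injective_elim hf1 hr
  obtain ⟨s, hs, hs1⟩ := exists_next _ hf2 (v := v) (k := 1) le_rfl (by norm_num)
    (by simp [Fintype.sum_option, hp, hq, hr1]; omega)
  refine ⟨r, s, hpq, hr (some ()), hs (some (some ())), hr none, hs (some none), hs none,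
    hp, hq, hr1, hs1, fun w => ?_⟩
  rw [idot_eq _ (injective_elim hf2 hs) (v := v)
    (by simp [Fintype.sum_option, hp, hq, hr1, hs1]; omega) w]
  simp [Fintype.sum_option]
  ring

theorem mk_U4 {v : ι → ℤ} {p q r s : ι} (pq : p ≠ q) (pr : p ≠ r) (ps : p ≠ s) (qr : q ≠ r)
    (qs : q ≠ s) (rs : r ≠ s) (hp : v p * v p = 1) (hq : v q * v q = 1) (hr : v r * v r = 1)
    (hs : v s * v s = 1) (h : idot v v = 4) : U4 v p q r s := by
  have hf : Function.Injective (fun k : Option (Option (Option Unit)) =>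
      k.elim s fun k => k.elim r fun k => k.elim q fun _ => p) :=
    injective_elim (injective_elim (injective_elim (fun _ _ _ => rfl) fun _ => pq)
      (by rintro (_ | _); exacts [qr, pr]))
      (by rintro (_ | _ | _); exacts [rs, qs, ps])
  refine ⟨pq, pr, ps, qr, qs, rs, hp, hq, hr, hs, fun w => ?_⟩
  rw [idot_eq _ hf (v := v) (by simp [Fintype.sum_option, hp, hq, hr, hs]; omega) w]
  simp [Fintype.sum_option]
  ring

theorem mk_U3 {o : ι} {v : ι → ℤ} {p q r : ι} (pq : p ≠ q) (pr : p ≠ r) (qr : q ≠ r) (po : p ≠ o)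
    (qo : q ≠ o) (ro : r ≠ o) (ho : v o = 1) (hp : v p * v p = 1) (hq : v q * v q = 1)
    (hr : v r * v r = 1) (h : idot v v = 4) : U3 o v p q r := by
  have hU := mk_U4 (v := v) po.symm qo.symm ro.symm pq pr qr (by rw [ho]; rfl) hp hq hr h
  exact ⟨pq, pr, qr, po, qo, ro, hp, hq, hr, fun w => by rw [hU.rep]; ring⟩

theorem values_four {v deg : ι → ℤ} (hd : ∀ x, deg x ≠ 0) (h : idot v v = 4)
    (hv : idot v deg = 0) (x : ι) : v x = 0 ∨ v x = 1 ∨ v x = -1 := by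
  have hle := Higman3.sum_sq_le (fun _ : Unit => x) (fun _ _ _ => rfl) v
  rw [h] at hle
  simp at hle
  have h1 : v x ≤ 2 ∧ -2 ≤ v x := ⟨by nlinarith, by nlinarith⟩
  have h2 : v x = 2 ∨ v x = -2 → False := by
    intro e
    have := idot_eq (fun _ : Unit => x) (fun _ _ _ => rfl) (v := v)
      (by simp; rcases e with e | e <;> rw [e, h] <;> rfl) deg
    rw [hv] at this
    simp at this
    rcases e with e | e <;> simp [e, hd x] at this
  rcases (by omega : v x = 2 ∨ v x = -2 ∨ (v x = 0 ∨ v x = 1 ∨ v x = -1)) with e | e | e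
  exacts [(h2 (Or.inl e)).elim, (h2 (Or.inr e)).elim, e]

theorem values_prod {u w : ℤ} (hu : u * u = 1) (hw : w = 0 ∨ w = 1 ∨ w = -1) :
    u * w = 0 ∨ u * w = 1 ∨ u * w = -1 := by
  rcases Int.eq_one_or_neg_one_of_mul_eq_one hu with rfl | rfl <;> rcases hw with rfl | rfl | rfl <;>
    decide

theorem U3_first {o : ι} {v : ι → ℤ} {p q r x : ι} (h : U3 o v p q r) (hx : x ≠ o) (h0 : v x ≠ 0) :
    ∃ y z, U3 o v x y z := by
  rcases h.cases hx with e | e | e | e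
  · exact absurd e h0
  · subst e; exact ⟨_, _, h⟩
  · subst e; exact ⟨_, _, h.swap12⟩
  · subst e; exact ⟨_, _, h.swap23.swap12⟩

theorem parity : ∀ g₁ ∈ ({1, -1} : Finset ℤ), ∀ g₂ ∈ ({1, -1} : Finset ℤ),
    ∀ g₃ ∈ ({1, -1} : Finset ℤ), ∀ a₁ ∈ ({1, -1} : Finset ℤ), ∀ a₂ ∈ ({1, -1} : Finset ℤ),
    ∀ a₃ ∈ ({1, -1} : Finset ℤ), ∀ b₁ ∈ ({0, 1, -1} : Finset ℤ), ∀ b₂ ∈ ({0, 1, -1} : Finset ℤ),
    ∀ b₃ ∈ ({0, 1, -1} : Finset ℤ), g₁ * b₁ + g₂ * b₂ + g₃ * b₃ = 2 →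
      a₁ * b₁ + a₂ * b₂ + a₃ * b₃ ≠ 1 := by decide +kernel

/-- Weights and moments of a vector. -/
structure Vec (deg : ι → ℤ) (pt : ι → ℚ × ℚ) (k : ℚ) (F : Form) (v : ι → ℤ) : Prop where
  k_ne : k ≠ 0
  det_ne : F.det ≠ 0
  deg_ne : ∀ x, deg x ≠ 0
  norm : idot v v = 4
  mass : idot v deg = 0
  first₁ : ∑ x, (v x : ℚ) * ((deg x : ℚ) * (pt x).1) = 0
  first₂ : ∑ x, (v x : ℚ) * ((deg x : ℚ) * (pt x).2) = 0
  aa : ∑ x, (v x : ℚ) * ((deg x : ℚ) * (pt x).1 ^ 2) = k * F.r11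
  ab : ∑ x, (v x : ℚ) * ((deg x : ℚ) * ((pt x).1 * (pt x).2)) = k * F.r12
  bb : ∑ x, (v x : ℚ) * ((deg x : ℚ) * (pt x).2 ^ 2) = k * F.r22

/-- The signed degree of a place. -/
def wt (deg v : ι → ℤ) (x : ι) : ℤ := v x * deg x

variable {deg : ι → ℤ} {pt : ι → ℚ × ℚ} {k : ℚ} {F F' : Form} {v : ι → ℤ}

theorem Vec.simplex (h : Vec deg pt k F v) {p q r s : ι} (hu : U4 v p q r s) :
    Simplex F k (wt deg v p) (wt deg v q) (wt deg v r) (wt deg v s) (pt p) (pt q) (pt r)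
      (pt s) := by
  have hv : ∀ w, idot v w = ∑ i, ![v p, v q, v r, v s] i * w (![p, q, r, s] i) := fun w => by
    rw [hu.rep]; simp [Fin.sum_univ_four]
  have key : ∀ f : ι → ℚ, ∑ x, (v x : ℚ) * f x =
      (v p : ℚ) * f p + (v q : ℚ) * f q + (v r : ℚ) * f r + (v s : ℚ) * f s := fun f => by
    rw [idot_cast_rat hv]; simp [Fin.sum_univ_four]
  have hne : ∀ x, v x * v x = 1 → ((wt deg v x : ℤ) : ℚ) ≠ 0 := fun x hx => by
    have : v x ≠ 0 := fun e => by simp [e] at hx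
    exact_mod_cast mul_ne_zero this (h.deg_ne x)
  obtain ⟨-, -, -, -, hm, h1, h2, h3, h4, h5⟩ := id h
  rw [key] at h1 h2 h3 h4 h5
  rw [hu.rep] at hm
  replace hm := congrArg (Int.cast : ℤ → ℚ) hm
  push_cast at hm
  refine ⟨h.k_ne, h.det_ne, hne p hu.p_sq, hne q hu.q_sq, hne r hu.r_sq, hne s hu.s_sq,
    ?_, ?_, ?_, ?_, ?_, ?_⟩ <;> simp only [wt, Int.cast_mul]
  · linear_combination hm
  · linear_combination h1
  · linear_combination h2
  · linear_combination h3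
  · linear_combination h4
  · linear_combination h5

theorem U3.toU4 {o : ι} {v : ι → ℤ} {p q r : ι} (h : U3 o v p q r) (ho : v o = 1) :
    U4 v o q r p :=
  ⟨h.qo.symm, h.ro.symm, h.po.symm, h.qr, h.pq.symm, h.pr.symm, by rw [ho]; rfl, h.q_sq, h.r_sq,
    h.p_sq, fun w => by rw [h.rep]; ring⟩

theorem same_of_edges {d : ℚ × ℚ} {m n : ℚ} (hm : m ≠ 0) (hn : n ≠ 0)
    (h : F.quad d * (m * n) = k * F.det * (m + n))
    (h' : F'.quad d * (m * n) = k * F'.det * (m + n)) : Same F F' d := by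
  apply mul_right_cancel₀ (mul_ne_zero hm hn)
  linear_combination F'.det * h - F.det * h'

theorem U4.swap12 {v : ι → ℤ} {p q r s : ι} (h : U4 v p q r s) : U4 v q p r s :=
  ⟨h.pq.symm, h.qr, h.qs, h.pr, h.ps, h.rs, h.q_sq, h.p_sq, h.r_sq, h.s_sq, fun w => by
    rw [h.rep]; ring⟩

theorem U4.swap23 {v : ι → ℤ} {p q r s : ι} (h : U4 v p q r s) : U4 v p r q s :=
  ⟨h.pr, h.pq, h.ps, h.qr.symm, h.rs, h.qs, h.p_sq, h.r_sq, h.q_sq, h.s_sq, fun w => by
    rw [h.rep]; ring⟩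

theorem U4.swap34 {v : ι → ℤ} {p q r s : ι} (h : U4 v p q r s) : U4 v p q s r :=
  ⟨h.pq, h.ps, h.pr, h.qs, h.qr, h.rs.symm, h.p_sq, h.q_sq, h.s_sq, h.r_sq, fun w => by
    rw [h.rep]; ring⟩

/-- Two shared opposite edges: a unit of degree one. -/
theorem opposite_case {FA FG FD : Form} {A G D : ι → ℤ} {o p a b g₁ g₂ d₁ d₂ : ι}
    (vA : Vec deg pt k FA A) (vG : Vec deg pt k FG G) (vD : Vec deg pt k FD D)
    (hn : ∀ d e, Same FA FG d → Same FA FD e → FA.bil d e = 0 → FA.quad d = 0 ∨ FA.quad e = 0)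
    (hA : U4 A o a b p) (hG : U4 G o g₁ g₂ p) (hD : U4 D a d₁ d₂ b) (hdo : deg o = 1)
    (hAo : A o = 1) (hGo : G o = 1) (hp : A p = G p) (ha : A a = D a) (hb : A b = D b) :
    deg p * deg p = 1 := by
  obtain ⟨eA, -, hopp⟩ := (vA.simplex hA).at_four
  obtain ⟨eG, -, -⟩ := (vG.simplex hG).at_four
  obtain ⟨eAab, -, -⟩ := (vA.simplex hA.swap12.swap34).at_four
  obtain ⟨eD, -, -⟩ := (vD.simplex hD).at_four
  have sA := vA.simplex hA
  have wo : wt deg A o = 1 := by rw [wt, hAo, hdo, one_mul]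
  have wG : wt deg G o = 1 := by rw [wt, hGo, hdo, one_mul]
  have wp : wt deg G p = wt deg A p := by rw [wt, wt, hp]
  have wa : wt deg D a = wt deg A a := by rw [wt, wt, ha]
  have wb : wt deg D b = wt deg A b := by rw [wt, wt, hb]
  rw [wG, wp] at eG
  rw [wo] at eA
  rw [wa, wb] at eD
  have h1 := same_of_edges (by norm_num) sA.ne₄ eA eG
  have h2 := same_of_edges sA.ne₂ sA.ne₃ eAab eD
  have hK : k * FA.det ≠ 0 := mul_ne_zero vA.k_ne vA.det_ne
  have hwp : (wt deg A p : ℚ) = -1 := by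
    rcases hn _ _ h1 h2 hopp with h0 | h0
    · rw [h0, zero_mul] at eA
      have := (mul_eq_zero.1 eA.symm).resolve_left hK
      push_cast at this
      linarith
    · rw [h0, zero_mul] at eAab
      have := (mul_eq_zero.1 eAab.symm).resolve_left hK
      have hm := sA.mass
      rw [wo] at hm
      push_cast at hm
      linarith
  have h : A p * deg p = -1 := by exact_mod_cast hwp
  have hs := hA.s_sq
  linear_combination (A p * deg p - 1) * h - deg p * deg p * hs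

/-- A unit shared with one sign, another with opposite signs: impossible. -/
theorem flip_case {FG FB FD : Form} {G B D : ι → ℤ} {o p φ g x y ψ : ι}
    (vG : Vec deg pt k FG G) (vB : Vec deg pt k FB B) (vD : Vec deg pt k FD D)
    (hn : (∀ d, Same FG FD d) ∨ ∀ d, Same FG FB d → Same FG FD d → FG.quad d = 0)
    (hG : U4 G φ g o p) (hB : U4 B φ x y p) (hD : U4 D φ g ψ p)
    (hBφ : B φ = G φ) (hDφ : D φ = G φ) (hBp : B p = G p) (hDp : D p = G p) (hDg : D g = -G g)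
    (cφ : (9 : ℤ) ∣ deg φ - 15 * G φ) (cp : (9 : ℤ) ∣ deg p - 20 * G p) : False := by
  have sG := vG.simplex hG
  obtain ⟨eG, -, -⟩ := sG.at_four
  obtain ⟨eB, -, -⟩ := (vB.simplex hB).at_four
  obtain ⟨eD, -, -⟩ := (vD.simplex hD).at_four
  rw [wt, wt, hBφ, hBp, ← wt, ← wt] at eB
  rw [wt, wt, hDφ, hDp, ← wt, ← wt] at eD
  have hK : k * FG.det ≠ 0 := mul_ne_zero vG.k_ne vG.det_ne
  rcases hn with hn | hn
  · obtain ⟨eG2, -, -⟩ := (vG.simplex (hG.swap23.swap34)).at_four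
    obtain ⟨eD2, -, -⟩ := (vD.simplex (hD.swap23.swap34)).at_four
    rw [wt, wt, hDφ, hDg, neg_mul, ← wt, ← wt] at eD2
    push_cast at eD2
    have hs : FG.quad (pt φ - pt g) * FD.det = FD.quad (pt φ - pt g) * FG.det := hn _
    have h2 : 2 * (k * FG.det * FD.det) * (wt deg G φ : ℚ) = 0 := by
      linear_combination -FD.det * eG2 - FG.det * eD2 + (wt deg G φ : ℚ) * (wt deg G g : ℚ) * hs
    simp [vG.k_ne, vG.det_ne, vD.det_ne, sG.ne₁] at h2
  · have h0 := hn _ (same_of_edges sG.ne₁ sG.ne₄ eG eB) (same_of_edges sG.ne₁ sG.ne₄ eG eD)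
    rw [h0, zero_mul] at eG
    have := (mul_eq_zero.1 eG.symm).resolve_left hK
    have h : G φ * deg φ + G p * deg p = 0 := by exact_mod_cast this
    rcases Int.eq_one_or_neg_one_of_mul_eq_one hG.p_sq with u | u <;>
      rcases Int.eq_one_or_neg_one_of_mul_eq_one hG.s_sq with u' | u' <;>
      rw [u, u'] at h <;> rw [u] at cφ <;> rw [u'] at cp <;> omega

theorem bad_ratio {n l T X Y : ℤ} (hT : (9 : ℤ) ∣ T - 2) (hX : (9 : ℤ) ∣ X - 1) (hY : (9 : ℤ) ∣ Y - 1)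
    (h : l * (X * Y) = n * ((T + X) * (T + Y))) : (27 : ℤ) ∣ l - 9 * n := by
  obtain ⟨t, ht⟩ := hT
  obtain ⟨x, hx⟩ := hX
  obtain ⟨y, hy⟩ := hY
  obtain rfl : T = 9 * t + 2 := by linarith
  obtain rfl : X = 9 * x + 1 := by linarith
  obtain rfl : Y = 9 * y + 1 := by linarith
  have h9 : (9 : ℤ) ∣ l := ⟨n * (1 + 3 * t + 3 * x) * (1 + 3 * t + 3 * y) -
    l * (x + y + 9 * x * y), by linear_combination h⟩
  obtain ⟨m, rfl⟩ := h9
  refine ⟨n * (2 * t + x + y + 3 * (t + x) * (t + y)) - 3 * m * (x + y + 9 * x * y), ?_⟩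
  linear_combination h

/-- The three shared edges at a unit common to all: a unit of degree one. -/
theorem common_case {FA FG FB FD : Form} {A G B D : ι → ℤ} {o p ψ a χ u φ g y : ι}
    (vA : Vec deg pt k FA A) (vG : Vec deg pt k FG G) (vB : Vec deg pt k FB B)
    (vD : Vec deg pt k FD D) (hn : Nice FA FG FB FD)
    (hA : U4 A o ψ a p) (hG : U4 G o φ g p) (hB : U4 B χ φ y p) (hD : U4 D ψ χ u p)
    (hdo : deg o = 1) (hAo : A o = 1) (hGo : G o = 1) (hGp : G p = A p) (hBp : B p = A p)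
    (hDp : D p = A p) (hψ : D ψ = A ψ) (hχ : B χ = D χ)
    (cp : (9 : ℤ) ∣ deg p - 20 * A p) (cψ : (9 : ℤ) ∣ deg ψ - 10 * A ψ)
    (cχ : (9 : ℤ) ∣ deg χ - 10 * D χ) : deg χ * deg χ = 1 := by
  obtain ⟨eA, bA, -⟩ := (vA.simplex hA).at_four
  obtain ⟨eA', -, -⟩ := (vA.simplex hA.swap12).at_four
  obtain ⟨eG, -, -⟩ := (vG.simplex hG).at_four
  obtain ⟨eB, -, -⟩ := (vB.simplex hB).at_four
  obtain ⟨eD, bD, -⟩ := (vD.simplex hD).at_four
  obtain ⟨eD', -, -⟩ := (vD.simplex hD.swap12).at_four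
  have sA := vA.simplex hA
  have sD := vD.simplex hD
  have wp : ∀ v : ι → ℤ, v p = A p → wt deg v p = wt deg A p := fun v h => by rw [wt, wt, h]
  have wψ : wt deg D ψ = wt deg A ψ := by rw [wt, wt, hψ]
  have wχ : wt deg B χ = wt deg D χ := by rw [wt, wt, hχ]
  have wo : wt deg A o = 1 := by rw [wt, hAo, hdo, one_mul]
  have wG : wt deg G o = 1 := by rw [wt, hGo, hdo, one_mul]
  rw [wo] at eA
  rw [wG, wp G hGp] at eG
  rw [wp B hBp, wχ] at eB
  rw [wp D hDp, wψ] at eD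
  rw [wp D hDp] at eD' bD
  have nT := sA.ne₄
  have nX := sA.ne₂
  have nY := sD.ne₂
  have s1 := same_of_edges (by norm_num) nT eA eG
  have s2 := same_of_edges nX nT eA' eD
  have s3 := same_of_edges nY nT eB eD'
  have hKA : k * FA.det ≠ 0 := mul_ne_zero vA.k_ne vA.det_ne
  have hKD : k * FD.det ≠ 0 := mul_ne_zero vD.k_ne vD.det_ne
  obtain ⟨T, hT⟩ : ∃ T, T = wt deg A p := ⟨_, rfl⟩
  obtain ⟨X, hX⟩ : ∃ X, X = wt deg A ψ := ⟨_, rfl⟩
  obtain ⟨Y, hY⟩ : ∃ Y, Y = wt deg D χ := ⟨_, rfl⟩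
  rw [← hT] at eA eA' eD eD' bA bD nT
  rw [← hX] at eA' eD nX
  rw [← hY] at eD' nY
  push_cast at eA
  have rA : ∀ n l : ℤ, (l : ℚ) * FA.bil (pt o - pt p) (pt ψ - pt p) ^ 2 =
      n * (FA.quad (pt o - pt p) * FA.quad (pt ψ - pt p)) →
      l * (1 * X) = n * ((T + 1) * (T + X)) := by
    intro n l h
    have h' : ((l * (1 * X) : ℤ) : ℚ) = ((n * ((T + 1) * (T + X)) : ℤ) : ℚ) := by
      push_cast
      apply mul_left_cancel₀ (pow_ne_zero 2 hKA)
      linear_combination ((X : ℚ) * (T : ℚ) ^ 2) * h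
        - ((l : ℚ) * X * (FA.bil (pt o - pt p) (pt ψ - pt p) * T + k * FA.det)) * bA
        + ((n : ℚ) * FA.quad (pt ψ - pt p) * X * T) * eA
        + ((n : ℚ) * k * FA.det * (1 + T)) * eA'
    exact_mod_cast h'
  have rD : ∀ n l : ℤ, (l : ℚ) * FD.bil (pt ψ - pt p) (pt χ - pt p) ^ 2 =
      n * (FD.quad (pt ψ - pt p) * FD.quad (pt χ - pt p)) →
      l * (X * Y) = n * ((T + X) * (T + Y)) := by
    intro n l h
    have h' : ((l * (X * Y) : ℤ) : ℚ) = ((n * ((T + X) * (T + Y)) : ℤ) : ℚ) := by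
      push_cast
      apply mul_left_cancel₀ (pow_ne_zero 2 hKD)
      linear_combination ((X : ℚ) * Y * (T : ℚ) ^ 2) * h
        - ((l : ℚ) * X * Y * (FD.bil (pt ψ - pt p) (pt χ - pt p) * T + k * FD.det)) * bD
        + ((n : ℚ) * FD.quad (pt χ - pt p) * Y * T) * eD
        + ((n : ℚ) * k * FD.det * (X + T)) * eD'
    exact_mod_cast h'
  have cT : (9 : ℤ) ∣ T - 2 := by
    rw [hT, wt]
    rcases Int.eq_one_or_neg_one_of_mul_eq_one hA.s_sq with u | u <;> rw [u] at cp ⊢ <;> omega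
  have cX : (9 : ℤ) ∣ X - 1 := by
    rw [hX, wt]
    rcases Int.eq_one_or_neg_one_of_mul_eq_one hA.q_sq with u | u <;> rw [u] at cψ ⊢ <;> omega
  have cY : (9 : ℤ) ∣ Y - 1 := by
    rw [hY, wt]
    rcases Int.eq_one_or_neg_one_of_mul_eq_one hD.q_sq with u | u <;> rw [u] at cχ ⊢ <;> omega
  rcases hn.angles _ _ _ s1 s2 s3 with ⟨n, l, hbad, h⟩ | ⟨n, l, hbad, h⟩ | ⟨g1, g2⟩
  · exact absurd (bad_ratio cT (by norm_num) cX (rA n l h)) hbad
  · exact absurd (bad_ratio cT cX cY (rD n l h)) hbad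
  · have h1 := rA 1 9 (by push_cast; linear_combination g1)
    have h2 := rD 1 9 (by push_cast; linear_combination g2)
    have h3 : (T + X) * (T * (1 - Y)) = 0 := by linear_combination Y * h1 - h2
    have hT0 : T ≠ 0 := fun e => by rw [e] at cT; omega
    have hTX : T + X ≠ 0 := fun e => by omega
    have hY1 : Y = 1 := by
      have := (mul_eq_zero.1 ((mul_eq_zero.1 h3).resolve_left hTX)).resolve_left hT0
      linarith
    rw [hY1, wt] at hY
    have hs := hD.q_sq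
    linear_combination -(D χ * deg χ + 1) * hY - deg χ * deg χ * hs

/-- The products of the four vectors and their moments. -/
structure Frame (deg : ι → ℤ) (pt : ι → ℚ × ℚ) (k : ℚ) (o : ι) (A G B D : ι → ℤ)
    (FA FG FB FD : Form) : Prop where
  deg_o : deg o = 1
  A_o : A o = 1
  G_o : G o = 1
  B_o : B o = 0
  D_o : D o = 0
  vA : Vec deg pt k FA A
  vG : Vec deg pt k FG G
  vB : Vec deg pt k FB B
  vD : Vec deg pt k FD D
  AG : idot A G = 2
  AB : idot A B = 1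
  AD : idot A D = 2
  GB : idot G B = 2
  GD : idot G D = 1
  BD : idot B D = 2
  cong : ∀ x, (9 : ℤ) ∣ deg x - 5 * (A x + G x + B x + D x)
  nice : Nice FA FG FB FD

/-- A vector with three units: where a vector with product two meets it. -/
theorem pick_two {o : ι} {v w : ι → ℤ} {p q r : ι} (hv : U3 o v p q r)
    (hw : ∀ x, w x = 0 ∨ w x = 1 ∨ w x = -1) (h : v p * w p + v q * w q + v r * w r = 2) :
    (w p = 0 ∧ w q = v q ∧ w r = v r) ∨ (w p = v p ∧ w q = 0 ∧ w r = v r) ∨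
      (w p = v p ∧ w q = v q ∧ w r = 0) := by
  rcases Int.eq_one_or_neg_one_of_mul_eq_one hv.p_sq with e | e <;>
  rcases Int.eq_one_or_neg_one_of_mul_eq_one hv.q_sq with e' | e' <;>
  rcases Int.eq_one_or_neg_one_of_mul_eq_one hv.r_sq with e'' | e'' <;>
  rcases hw p with f | f | f <;> rcases hw q with f' | f' | f' <;>
  rcases hw r with f'' | f'' | f'' <;>
  rw [e, e', e'', f, f', f''] at h ⊢ <;> omega

theorem Frame.exists_linear {o : ι} {A G B D : ι → ℤ} {FA FG FB FD : Form}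
    (h : Frame deg pt k o A G B D FA FG FB FD) : ∃ x, x ≠ o ∧ deg x * deg x = 1 := by
  have hd := h.vA.deg_ne
  obtain ⟨a1, a2, a3, hA0⟩ := exists_U3 (o := o) (v := A) (by rw [h.vA.norm, h.A_o]; norm_num)
  obtain ⟨g1, g2, g3, hG0⟩ := exists_U3 (o := o) (v := G) (by rw [h.vG.norm, h.G_o]; norm_num)
  have valA := fun x => values_four hd h.vA.norm h.vA.mass x
  have valB := fun x => values_four hd h.vB.norm h.vB.mass x
  have valD := fun x => values_four hd h.vD.norm h.vD.mass x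
  have valG := fun x => values_four hd h.vG.norm h.vG.mass x
  have hGA : G g1 * A g1 + G g2 * A g2 + G g3 * A g3 = 1 := by
    have := h.AG
    rw [idot_comm, hG0.rep, h.G_o, h.A_o] at this
    linarith
  obtain ⟨p, φ, g, hG, hp, hφA, hgA⟩ : ∃ p φ g, U3 o G p φ g ∧ A p = G p ∧ A φ = 0 ∧ A g = 0 := by
    by_cases hall : A g1 ≠ 0 ∧ A g2 ≠ 0 ∧ A g3 ≠ 0
    · exfalso
      obtain ⟨n1, n2, n3⟩ := hall
      have sq : ∀ x, A x ≠ 0 → A x * A x = 1 := fun x hx => by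
        rcases valA x with e | e | e
        · exact absurd e hx
        all_goals rw [e]; rfl
      have hA := mk_U3 hG0.pq hG0.pr hG0.qr hG0.po hG0.qo hG0.ro h.A_o (sq _ n1) (sq _ n2)
        (sq _ n3) h.vA.norm
      have hb := h.AB
      rw [hA.rep, h.B_o] at hb
      have hgb := h.GB
      rw [hG0.rep, h.B_o] at hgb
      have m1 : ∀ z : ℤ, z * z = 1 → z ∈ ({1, -1} : Finset ℤ) := fun z hz => by
        rcases Int.eq_one_or_neg_one_of_mul_eq_one hz with e | e <;> simp [e]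
      have m2 : ∀ x, B x ∈ ({0, 1, -1} : Finset ℤ) := fun x => by
        rcases valB x with e | e | e <;> simp [e]
      exact parity _ (m1 _ hG0.p_sq) _ (m1 _ hG0.q_sq) _ (m1 _ hG0.r_sq) _ (m1 _ hA.p_sq)
        _ (m1 _ hA.q_sq) _ (m1 _ hA.r_sq) _ (m2 g1) _ (m2 g2) _ (m2 g3) (by linarith) (by linarith)
    · rcases Int.eq_one_or_neg_one_of_mul_eq_one hG0.p_sq with e | e <;>
      rcases Int.eq_one_or_neg_one_of_mul_eq_one hG0.q_sq with e' | e' <;>
      rcases Int.eq_one_or_neg_one_of_mul_eq_one hG0.r_sq with e'' | e'' <;>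
      rcases valA g1 with f | f | f <;> rcases valA g2 with f' | f' | f' <;>
      rcases valA g3 with f'' | f'' | f'' <;>
      rw [e, e', e'', f, f', f''] at hGA <;>
      first
        | omega
        | (exfalso; exact hall ⟨by omega, by omega, by omega⟩)
        | exact ⟨g1, g2, g3, hG0, by omega, f', f''⟩
        | exact ⟨g2, g1, g3, hG0.swap12, by omega, f, f''⟩
        | exact ⟨g3, g1, g2, hG0.swap23.swap12, by omega, f, f'⟩
  have hp0 : A p ≠ 0 := fun e => by rw [hp] at e; simpa [e] using hG.p_sq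
  obtain ⟨b1, b2, hA⟩ := U3_first hA0 hG.po hp0
  have hAD : A p * D p + A b1 * D b1 + A b2 * D b2 = 2 := by
    have := h.AD
    rw [hA.rep, h.D_o] at this
    linarith
  have hGB : G p * B p + G φ * B φ + G g * B g = 2 := by
    have := h.GB
    rw [hG.rep, h.B_o] at this
    linarith
  have hdo := h.deg_o
  obtain ⟨ψ, a, hA, hDp, hDψ, hDa⟩ | hlin : (∃ ψ a, U3 o A p ψ a ∧ D p = A p ∧ D ψ = A ψ ∧ D a = 0) ∨
      deg p * deg p = 1 := by
    rcases pick_two hA valD hAD with ⟨-, h1, h2⟩ | ⟨h0, h1, h2⟩ | ⟨h0, h1, h2⟩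
    · right
      have sD1 : D b1 * D b1 = 1 := by rw [h1]; exact hA.q_sq
      have sD2 : D b2 * D b2 = 1 := by rw [h2]; exact hA.r_sq
      obtain ⟨d1, d2, hD⟩ := exists_U4 hA.qr sD1 sD2 h.vD.norm
      exact opposite_case h.vA h.vG h.vD h.nice.opp (U3.toU4 hA h.A_o) (U3.toU4 hG h.G_o)
        hD.swap23.swap34 hdo h.A_o h.G_o hp h1.symm h2.symm
    · exact Or.inl ⟨b2, b1, hA.swap23, h0, h2, h1⟩
    · exact Or.inl ⟨b1, b2, hA, h0, h1, h2⟩
  swap
  · exact ⟨p, hG.po, hlin⟩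
  obtain ⟨φ, g, hG, hBp, hBφ, hBg, hφA, hgA⟩ | hlin : (∃ φ' g', U3 o G p φ' g' ∧ B p = G p ∧
      B φ' = G φ' ∧ B g' = 0 ∧ A φ' = 0 ∧ A g' = 0) ∨ deg p * deg p = 1 := by
    rcases pick_two hG valB hGB with ⟨-, h1, h2⟩ | ⟨h0, h1, h2⟩ | ⟨h0, h1, h2⟩
    · right
      have sB1 : B φ * B φ = 1 := by rw [h1]; exact hG.q_sq
      have sB2 : B g * B g = 1 := by rw [h2]; exact hG.r_sq
      obtain ⟨d1, d2, hB⟩ := exists_U4 hG.qr sB1 sB2 h.vB.norm
      exact opposite_case h.vG h.vA h.vB h.nice.opp' (U3.toU4 hG h.G_o) (U3.toU4 hA h.A_o)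
        hB.swap23.swap34 hdo h.G_o h.A_o hp.symm h1.symm h2.symm
    · exact Or.inl ⟨g, φ, hG.swap23, h0, h2, h1, hgA, hφA⟩
    · exact Or.inl ⟨φ, g, hG, h0, h1, h2, hφA, hgA⟩
  swap
  · exact ⟨p, hG.po, hlin⟩
  have hA4 := U3.toU4 hA h.A_o
  have hG4 := U3.toU4 hG h.G_o
  have hGψ : G ψ = 0 := by
    rcases hG.cases hA.qo with e | e | e | e
    · exact e
    · exact absurd e hA.pq.symm
    · exact absurd (e ▸ hφA) (fun e' => by simpa [e'] using hA.q_sq)
    · exact absurd (e ▸ hgA) (fun e' => by simpa [e'] using hA.q_sq)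
  have hψφ : ψ ≠ φ := fun e => by rw [← e] at hφA; simpa [hφA] using hA.q_sq
  have hψg : ψ ≠ g := fun e => by rw [← e] at hgA; simpa [hgA] using hA.q_sq
  have haφ : a ≠ φ := fun e => by rw [← e] at hφA; simpa [hφA] using hA.r_sq
  have haG : G a = 0 := by
    rcases hG.cases hA.ro with e | e | e | e
    · exact e
    · exact absurd e hA.pr.symm
    · exact absurd e haφ
    · exact absurd (e ▸ hgA) (fun e' => by simpa [e'] using hA.r_sq)
  have sBp : B p * B p = 1 := by rw [hBp]; exact hG.p_sq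
  have sDp : D p * D p = 1 := by rw [hDp]; exact hA.p_sq
  have sBφ : B φ * B φ = 1 := by rw [hBφ]; exact hG.q_sq
  have sDψ : D ψ * D ψ = 1 := by rw [hDψ]; exact hA.q_sq
  have hABsum : A ψ * B ψ + A a * B a = 0 := by
    have := h.AB
    rw [hA.rep, h.B_o, hBp, hp, hG.p_sq] at this
    linarith
  have hGDsum : G φ * D φ + G g * D g = 0 := by
    have := h.GD
    rw [hG.rep, h.D_o, hDp, hp, hG.p_sq] at this
    linarith
  have hGDcases : (D φ = 0 ∧ D g = 0) ∨ (D φ = G φ ∧ D g = -G g) ∨ (D φ = -G φ ∧ D g = G g) := by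
    rcases Int.eq_one_or_neg_one_of_mul_eq_one hG.q_sq with e | e <;>
    rcases Int.eq_one_or_neg_one_of_mul_eq_one hG.r_sq with e' | e' <;>
    rcases valD φ with f | f | f <;> rcases valD g with f' | f' | f' <;>
    rw [e, e', f, f'] at hGDsum ⊢ <;> omega
  have hABcases : (B ψ = 0 ∧ B a = 0) ∨ (B ψ = A ψ ∧ B a = -A a) ∨ (B ψ = -A ψ ∧ B a = A a) := by
    rcases Int.eq_one_or_neg_one_of_mul_eq_one hA.q_sq with e | e <;>
    rcases Int.eq_one_or_neg_one_of_mul_eq_one hA.r_sq with e' | e' <;>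
    rcases valB ψ with f | f | f <;> rcases valB a with f' | f' | f' <;>
    rw [e, e', f, f'] at hABsum ⊢ <;> omega
  have cp : (9 : ℤ) ∣ deg p - 20 * G p := by
    have := h.cong p
    rw [hp, hBp, hDp, hp] at this
    omega
  rcases hGDcases with ⟨hDφ, hDg⟩ | ⟨hDφ, hDg⟩ | ⟨hDφ, hDg⟩
  rotate_left
  · exfalso
    have hD := mk_U4 (v := D) (p := φ) (q := g) (r := ψ) (s := p) hG.qr hψφ.symm hG.pq.symm
      hψg.symm hG.pr.symm hA.pq.symm (by rw [hDφ]; exact hG.q_sq)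
      (by rw [hDg, neg_mul_neg]; exact hG.r_sq) sDψ sDp h.vD.norm
    obtain ⟨x, y, hB⟩ := exists_U4 hG.pq.symm sBφ sBp h.vB.norm
    refine flip_case h.vG h.vB h.vD h.nice.three hG4.swap12.swap23 hB.swap23.swap34 hD hBφ hDφ hBp
      (hDp.trans hp) hDg ?_ cp
    have := h.cong φ
    rw [hφA, hBφ, hDφ] at this
    omega
  · exfalso
    have hD := mk_U4 (v := D) (p := φ) (q := g) (r := ψ) (s := p) hG.qr hψφ.symm hG.pq.symm
      hψg.symm hG.pr.symm hA.pq.symm (by rw [hDφ, neg_mul_neg]; exact hG.q_sq)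
      (by rw [hDg]; exact hG.r_sq) sDψ sDp h.vD.norm
    have hbd := h.BD
    rw [idot_comm, hD.rep, hBg, hDφ, hBφ, neg_mul, hG.q_sq, hDp, hp, hBp, hG.p_sq, hDψ] at hbd
    rcases Int.eq_one_or_neg_one_of_mul_eq_one hA.q_sq with e | e <;> rw [e] at hbd <;>
      rcases valB ψ with f | f | f <;> rw [f] at hbd <;> omega
  rcases hABcases with ⟨hBψ, hBa⟩ | ⟨hBψ, hBa⟩ | ⟨hBψ, hBa⟩
  rotate_left
  · exfalso
    have hB := mk_U4 (v := B) (p := ψ) (q := a) (r := φ) (s := p) hA.qr hψφ hA.pq.symm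
      haφ hA.pr.symm hG.pq.symm (by rw [hBψ]; exact hA.q_sq)
      (by rw [hBa, neg_mul_neg]; exact hA.r_sq) sBφ sBp h.vB.norm
    obtain ⟨x, y, hD⟩ := exists_U4 hA.pq.symm sDψ sDp h.vD.norm
    refine flip_case h.vA h.vD h.vB h.nice.three' hA4.swap12.swap23 hD.swap23.swap34 hB hDψ hBψ
      hDp (hBp.trans hp.symm) hBa ?_ (by rwa [hp])
    have := h.cong ψ
    rw [hGψ, hBψ, hDψ] at this
    omega
  · exfalso
    have hB := mk_U4 (v := B) (p := ψ) (q := a) (r := φ) (s := p) hA.qr hψφ hA.pq.symm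
      haφ hA.pr.symm hG.pq.symm (by rw [hBψ, neg_mul_neg]; exact hA.q_sq)
      (by rw [hBa]; exact hA.r_sq) sBφ sBp h.vB.norm
    have hbd := h.BD
    rw [hB.rep, hDa, hBψ, hDψ, neg_mul, hA.q_sq, hBp, hDp, hp, hG.p_sq, hDφ] at hbd
    omega
  obtain ⟨x, y, hB⟩ := exists_U4 hG.pq sBp sBφ h.vB.norm
  have hbd := h.BD
  rw [hB.rep, hBp, hDp, hp, hG.p_sq, hDφ, mul_zero, add_zero] at hbd
  obtain ⟨χ, y', hB', hχ⟩ : ∃ χ y', U4 B p φ χ y' ∧ D χ = B χ := by
    rcases Int.eq_one_or_neg_one_of_mul_eq_one hB.r_sq with e | e <;>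
    rcases Int.eq_one_or_neg_one_of_mul_eq_one hB.s_sq with e' | e' <;>
    rcases valD x with f | f | f <;> rcases valD y with f' | f' | f' <;>
    rw [e, e', f, f'] at hbd <;>
    first
      | omega
      | exact ⟨x, y, hB, f.trans e.symm⟩
      | exact ⟨y, x, hB.swap34, f'.trans e'.symm⟩
  have hχψ : χ ≠ ψ := fun e => by
    have := hB'.r_sq
    rw [e, hBψ] at this
    norm_num at this
  have hχa : χ ≠ a := fun e => by
    have := hB'.r_sq
    rw [e, hBa] at this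
    norm_num at this
  have hχo : χ ≠ o := fun e => by
    have := hB'.r_sq
    rw [e, h.B_o] at this
    norm_num at this
  have hχg : χ ≠ g := fun e => by
    have := hB'.r_sq
    rw [e, hBg] at this
    norm_num at this
  have hAχ : A χ = 0 := hA.eq_zero hχo hB'.pr.symm hχψ hχa
  have hGχ : G χ = 0 := hG.eq_zero hχo hB'.pr.symm hB'.qr.symm hχg
  obtain ⟨u, v', hD⟩ := exists_U4 hχψ.symm sDψ (by rw [hχ]; exact hB'.r_sq) h.vD.norm
  have hpD : p = u ∨ p = v' := by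
    by_contra hne
    push Not at hne
    classical
    have := hD.rep fun z => if z = p then 1 else 0
    rw [idot, Finset.sum_eq_single p (fun z _ hz => by rw [if_neg hz, mul_zero]) (by simp),
      if_pos rfl, mul_one, if_neg hA.pq.symm, if_neg hB'.pr.symm, if_neg hne.1.symm,
      if_neg hne.2.symm] at this
    simp [this] at sDp
  obtain ⟨u, hD⟩ : ∃ u, U4 D ψ χ u p := by
    rcases hpD with e | e
    · subst e; exact ⟨v', hD.swap34⟩
    · subst e; exact ⟨u, hD⟩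
  refine ⟨χ, hχo, common_case h.vA h.vG h.vB h.vD h.nice hA4 hG4
    (hB'.swap23.swap12.swap34.swap23.swap34.swap23) hD hdo h.A_o h.G_o hp.symm (hBp.trans hp.symm)
    hDp hDψ hχ.symm (by rwa [hp]) ?_ ?_⟩
  · have := h.cong ψ
    rw [hGψ, hBψ, hDψ] at this
    omega
  · have := h.cong χ
    rw [hAχ, hGχ, hχ] at this
    rw [hχ]
    omega

end Cfsg.Agent.Lib.Higman9
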