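import Mathlib
import Cfsg.Agent.Lib.Higman9.Control
import Cfsg.Agent.Lib.Higman9.Units
import Cfsg.Agent.Lib.Higman3.TwoClasses
import Cfsg.Agent.Lib.Higman3.Main

/-!
A group with such a normalizer has a linear character other than the trivial one.
-/

set_option autoImplicit false

namespace Cfsg.Agent.Lib.Higman9

open Cfsg Cfsg.Agent.Lib
open scoped ComplexConjugate
open Cfsg.Agent.Lib.Higman3 (idot coeff irrDeg irrDeg_spec irrDeg_ne_zero irrDeg_nonneg intVal
  intVal_spec)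

variable {G : Type*} [Group G] [Fintype G] {M : Sylow 3 G} {N : Subgroup G} [Fintype N]
variable {e : N ≃* W}

/-- The conjugates of `s`. -/
noncomputable def cjSet (s : G) : Finset G := by
  classical exact Finset.univ.filter fun u => IsConj s u

theorem mem_cjSet {s u : G} : u ∈ cjSet s ↔ IsConj s u := by
  classical simp [cjSet]

/-- An integer function of the model read on `N`. -/
noncomputable def lift (e : N ≃* W) (f : W → ℤ) : N → ℂ := fun n => castC f (e n)

omit [Fintype G] [Fintype N] in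
theorem vc_lift (e : N ≃* W) {f : W → ℤ} (h : IsGeneralizedCharacter W (castC f)) :
    IsGeneralizedCharacter N (lift e f) := by
  obtain ⟨χ, η, hχ, hη, eq⟩ := h
  exact ⟨_, _, Chars.isCharacter_comp e.toMonoidHom hχ, Chars.isCharacter_comp e.toMonoidHom hη,
    funext fun n => congrFun eq (e n)⟩

omit [Fintype G] in
theorem sum_lift (e : N ≃* W) {A : Type*} [AddCommMonoid A] (F : W → A) :
    ∑ n : N, F (e n) = ∑ w, F w :=
  Fintype.sum_equiv e.toEquiv _ _ fun _ => rfl

omit [Fintype G] in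
theorem card_eq (e : N ≃* W) : Nat.card N = 72 := by
  rw [Nat.card_congr e.toEquiv, Nat.card_eq_fintype_card, card_W]

omit [Fintype G] in
theorem classInner_lift (e : N ≃* W) (f g : W → ℤ) :
    classInner (lift e f) (lift e g) = (72 : ℂ)⁻¹ * ((∑ w, f w * g w : ℤ) : ℂ) := by
  simp only [classInner, lift, castC, map_intCast, card_eq e, ← Int.cast_mul]
  rw [sum_lift e (fun w => ((f w * g w : ℤ) : ℂ))]
  push_cast
  rfl

namespace Ctx

variable (C : Ctx M N e)

include C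

omit [Fintype N] in
theorem supported {f : W → ℤ} (hf : ∀ w, ¬InX w → f w = 0) :
    Higman3.Supported (sqSet N (M : Subgroup G)) (lift e f) := by
  intro n hn
  show ((f (e n) : ℤ) : ℂ) = 0
  rw [hf _ fun hX => hn ((C.inX_iff n).1 hX), Int.cast_zero]

theorem idot_lift {f g : W → ℤ} (hf : IsGeneralizedCharacter W (castC f))
    (hg : IsGeneralizedCharacter W (castC g)) (hfs : ∀ w, ¬InX w → f w = 0)
    (hgs : ∀ w, ¬InX w → g w = 0) {n : ℤ} (h : ∑ w, f w * g w = 72 * n) :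
    idot (coeff (G := G) (vc_lift e hf)) (coeff (vc_lift e hg)) = n := by
  have := Higman3.idot_coeff C.controlled (vc_lift e hf) (vc_lift e hg) (C.supported hfs)
    (C.supported hgs)
  rw [classInner_lift, h] at this
  push_cast at this
  rw [← mul_assoc, inv_mul_cancel₀ (by norm_num), one_mul] at this
  exact_mod_cast this

omit C in
theorem coeff_lift_trivial {f : W → ℤ} (hf : IsGeneralizedCharacter W (castC f)) {n : ℤ}
    (h : ∑ w, f w = 72 * n) : coeff (vc_lift e hf) (Chars.trivialIrr G) = n := by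
  have := Higman3.coeff_trivial (G := G) (vc_lift e hf)
  rw [show (fun _ : N => (1 : ℂ)) = lift e (fun _ => 1) from funext fun _ => by simp [lift, castC],
    classInner_lift] at this
  simp only [mul_one, h] at this
  push_cast at this
  rw [← mul_assoc, inv_mul_cancel₀ (by norm_num), one_mul] at this
  exact_mod_cast this

omit C in
theorem coeff_sum {f : W → ℤ} (hf : IsGeneralizedCharacter N (lift e f)) (χ : IrrCharacter G) :
    (72 : ℂ) * (coeff hf χ : ℂ) = ∑ n : N, ((f (e n) : ℤ) : ℂ) * conj ((χ : G → ℂ) n) := by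
  rw [← Higman3.coeff_spec hf χ, Chars.classInner_indFun_left _ _ _ (Chars.irr_isClassFunction χ)]
  simp only [classInner, card_eq e, lift, castC]
  push_cast
  rw [← mul_assoc, mul_inv_cancel₀ (by norm_num), one_mul]

omit C in
/-- The degree modulo nine from the four coefficients. -/
theorem congruence (e : N ≃* W) (χ : IrrCharacter G) :
    (9 : ℤ) ∣ irrDeg χ - 5 * (coeff (vc_lift e vc_all.1) χ + coeff (vc_lift e vc_all.2.1) χ +
      coeff (vc_lift e vc_all.2.2.1) χ + coeff (vc_lift e vc_all.2.2.2.1) χ) := by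
  refine ⟨coeff (vc_lift e vc_all.2.2.2.2) χ, ?_⟩
  classical
  have h1 : ∑ n : N, (if e n = 1 then (72 : ℂ) else 0) * conj ((χ : G → ℂ) n) =
      72 * (irrDeg χ : ℂ) := by
    simp only [MulEquiv.map_eq_one_iff, ite_mul, zero_mul, Finset.sum_ite_eq', Finset.mem_univ,
      if_true, OneMemClass.coe_one, irrDeg_spec, map_intCast]
  have h2 : ∀ n : N, (if e n = 1 then (72 : ℂ) else 0) * conj ((χ : G → ℂ) n) -
      5 * (((fA (e n) : ℤ) : ℂ) * conj ((χ : G → ℂ) n) +
        ((fG (e n) : ℤ) : ℂ) * conj ((χ : G → ℂ) n) + ((fB (e n) : ℤ) : ℂ) * conj ((χ : G → ℂ) n) +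
        ((fD (e n) : ℤ) : ℂ) * conj ((χ : G → ℂ) n)) =
      9 * (((fV (e n) : ℤ) : ℂ) * conj ((χ : G → ℂ) n)) := by
    intro n
    have h := congrArg (Int.cast : ℤ → ℂ) (congr_fun (e n))
    push_cast at h
    linear_combination conj ((χ : G → ℂ) n) * h
  have h3 := Finset.sum_congr rfl fun n (_ : n ∈ (Finset.univ : Finset N)) => h2 n
  rw [Finset.sum_sub_distrib, ← Finset.mul_sum, ← Finset.mul_sum, Finset.sum_add_distrib,
    Finset.sum_add_distrib, Finset.sum_add_distrib, h1, ← coeff_sum (vc_lift e vc_all.1),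
    ← coeff_sum (vc_lift e vc_all.2.1), ← coeff_sum (vc_lift e vc_all.2.2.1),
    ← coeff_sum (vc_lift e vc_all.2.2.2.1), ← coeff_sum (vc_lift e vc_all.2.2.2.2)] at h3
  have h4 : ((irrDeg χ - 5 * (coeff (vc_lift e vc_all.1) χ + coeff (vc_lift e vc_all.2.1) χ +
      coeff (vc_lift e vc_all.2.2.1) χ + coeff (vc_lift e vc_all.2.2.2.1) χ) : ℤ) : ℂ) =
      ((9 * coeff (vc_lift e vc_all.2.2.2.2) χ : ℤ) : ℂ) := by
    push_cast
    linear_combination h3 / 72
  exact_mod_cast h4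

/-- The point of a unit. -/
noncomputable def point (s t : G) (χ : IrrCharacter G) : ℚ × ℚ :=
  (((cjSet s).card : ℚ) * intVal χ s / irrDeg χ, ((cjSet t).card : ℚ) * intVal χ t / irrDeg χ)

omit [Fintype N] in
theorem not_mem_sqSet {g : G} (h2 : g * g = 1) : g ∉ sqSet N (M : Subgroup G) := fun h => h.2.2 h2

theorem first_zero {f : W → ℤ} (hf : IsGeneralizedCharacter W (castC f))
    (hfs : ∀ w, ¬InX w → f w = 0) {s : G} (hs : s * s = 1) :
    ∑ χ : IrrCharacter G, (coeff (vc_lift e hf) χ : ℚ) *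
      ((irrDeg χ : ℚ) * (((cjSet s).card : ℚ) * intVal χ s / irrDeg χ)) = 0 := by
  have h := Higman3.indFun_apply_eq_sum (G := G) (vc_lift e hf) s
  rw [Higman3.indFun_eq_zero (C.supported hfs) fun x => not_mem_sqSet C (by
    calc x⁻¹ * s * x * (x⁻¹ * s * x) = x⁻¹ * (s * s) * x := by group
      _ = 1 := by rw [hs]; group)] at h
  simp only [intVal_spec _ hs] at h
  have h' : ((∑ χ : IrrCharacter G, coeff (vc_lift e hf) χ * intVal χ s : ℤ) : ℂ) = 0 := by
    push_cast; exact h.symm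
  have h'' := congrArg (Int.cast : ℤ → ℚ) (Int.cast_eq_zero.1 h')
  push_cast at h''
  calc _ = ((cjSet s).card : ℚ) * ∑ χ : IrrCharacter G, (coeff (vc_lift e hf) χ : ℚ) * intVal χ s := by
        rw [Finset.mul_sum]
        refine Finset.sum_congr rfl fun χ _ => ?_
        have : (irrDeg χ : ℚ) ≠ 0 := Int.cast_ne_zero.2 (irrDeg_ne_zero χ)
        field_simp
    _ = 0 := by rw [h'', mul_zero]

theorem second_eq {f : W → ℤ} (hf : IsGeneralizedCharacter W (castC f))
    (hfs : ∀ w, ¬InX w → f w = 0) {s t : G} (hs : s * s = 1) (ht : t * t = 1) {P Q : Finset W}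
    (hsP : ∀ n : N, e n ∈ P ↔ IsConj s (n : G)) (htQ : ∀ n : N, e n ∈ Q ↔ IsConj t (n : G))
    {r : ℤ} (hR : pairSum P Q f = 36 * r) :
    ∑ χ : IrrCharacter G, (coeff (vc_lift e hf) χ : ℚ) * ((irrDeg χ : ℚ) *
      ((((cjSet s).card : ℚ) * intVal χ s / irrDeg χ) *
        (((cjSet t).card : ℚ) * intVal χ t / irrDeg χ))) = (36 * N.index : ℚ) * r := by
  classical
  have hcl : ∀ s : G, ∀ u ∈ cjSet s, ∀ x : G, x * u * x⁻¹ ∈ cjSet s := fun s u hu x =>
    mem_cjSet.2 ((mem_cjSet.1 hu).trans (isConj_iff.2 ⟨x, rfl⟩))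
  have hsum : ∀ (χ : IrrCharacter G) (s : G), s * s = 1 →
      ∑ u ∈ cjSet s, (χ : G → ℂ) u = ((cjSet s).card : ℂ) * (intVal χ s : ℂ) := by
    intro χ s hs
    rw [← intVal_spec χ hs, Finset.sum_congr rfl (g := fun _ => (χ : G → ℂ) s) fun u hu =>
      Chars.isClassFunction_apply_eq (Chars.irr_isClassFunction χ) (mem_cjSet.1 hu),
      Finset.sum_const, nsmul_eq_mul]
  let KH : Finset N := Finset.univ.filter fun n => e n ∈ P
  let LH : Finset N := Finset.univ.filter fun n => e n ∈ Q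
  have h := Higman3.sum_coeff_two C.controlled (vc_lift e hf) (C.supported hfs)
    (cjSet s) (cjSet t) (hcl s) (hcl t)
    (fun u hu => Higman3.Model.sq_eq_one_of_isConj hs (mem_cjSet.1 hu))
    (fun u hu => Higman3.Model.sq_eq_one_of_isConj ht (mem_cjSet.1 hu)) KH LH
    (fun n => by simp [KH, hsP, mem_cjSet]) (fun n => by simp [LH, htQ, mem_cjSet])
  have himg : ∀ P : Finset W, (Finset.univ.filter fun n : N => e n ∈ P).map e.toEquiv.toEmbedding = P := by
    intro P
    ext w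
    simp only [Finset.mem_map_equiv, Finset.mem_filter, Finset.mem_univ, true_and]
    exact ⟨fun h => by simpa using h, fun h => by simpa using h⟩
  have hpair : ∑ u ∈ KH, ∑ v ∈ LH, lift e f (u * v) = ((36 * r : ℤ) : ℂ) := by
    rw [← hR, pairSum, Int.cast_sum]
    conv_rhs => rw [← himg P, Finset.sum_map]
    refine Finset.sum_congr rfl fun u _ => ?_
    rw [Int.cast_sum]
    conv_rhs => rw [← himg Q, Finset.sum_map]
    exact Finset.sum_congr rfl fun v _ => by simp [lift, castC]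
  have hidx : (Nat.card G : ℂ) / (Nat.card N : ℂ) = (N.index : ℂ) := by
    rw [div_eq_iff (Nat.cast_ne_zero.2 Nat.card_pos.ne'), ← N.card_mul_index]
    push_cast; ring
  rw [hpair, hidx] at h
  simp only [hsum _ s hs, hsum _ t ht, irrDeg_spec] at h
  apply Rat.cast_injective (α := ℂ)
  push_cast at h ⊢
  rw [show (36 : ℂ) * (N.index : ℂ) * (r : ℂ) = (N.index : ℂ) * (36 * (r : ℂ)) by ring, ← h]
  refine Finset.sum_congr rfl fun χ _ => ?_
  have : (irrDeg χ : ℂ) ≠ 0 := Int.cast_ne_zero.2 (irrDeg_ne_zero χ)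
  field_simp

/-- The moments of one of the four vectors. -/
theorem vec {f : W → ℤ} (hf : IsGeneralizedCharacter W (castC f)) (hfs : ∀ w, ¬InX w → f w = 0)
    (hnorm : ∑ w, f w * f w = 72 * 4) {s t : G} (hs : s * s = 1) (ht : t * t = 1) {P Q : Finset W}
    (hsP : ∀ n : N, e n ∈ P ↔ IsConj s (n : G)) (htQ : ∀ n : N, e n ∈ Q ↔ IsConj t (n : G))
    {r₁₁ r₁₂ r₂₂ : ℤ} (h11 : pairSum P P f = 36 * r₁₁) (h12 : pairSum P Q f = 36 * r₁₂)
    (h22 : pairSum Q Q f = 36 * r₂₂) (hdet : (⟨r₁₁, r₁₂, r₂₂⟩ : Form).det ≠ 0) :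
    Vec (irrDeg (G := G)) (point s t) (36 * N.index : ℚ) ⟨r₁₁, r₁₂, r₂₂⟩
      (coeff (vc_lift e hf)) where
  k_ne := mul_ne_zero (by norm_num) (Nat.cast_ne_zero.2 Subgroup.index_ne_zero_of_finite)
  det_ne := hdet
  deg_ne := irrDeg_ne_zero
  norm := C.idot_lift hf hf hfs hfs hnorm
  mass := Higman3.idot_coeff_deg (G := G) one_not_mem_sqSet _ (C.supported hfs)
  first₁ := C.first_zero hf hfs hs
  first₂ := C.first_zero hf hfs ht
  aa := by
    simp only [point, sq]
    exact C.second_eq hf hfs hs hs hsP hsP h11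
  ab := C.second_eq hf hfs hs ht hsP htQ h12
  bb := by
    simp only [point, sq]
    exact C.second_eq hf hfs ht ht htQ htQ h22

/-- A character of degree one other than the trivial one, from two classes of involutions. -/
theorem linear_of {s t : G} (hs : s * s = 1) (ht : t * t = 1) {P Q : Finset W}
    (hsP : ∀ n : N, e n ∈ P ↔ IsConj s (n : G)) (htQ : ∀ n : N, e n ∈ Q ↔ IsConj t (n : G))
    {rA rG rB rD : ℤ × ℤ × ℤ}
    (hA : pairSum P P fA = 36 * rA.1 ∧ pairSum P Q fA = 36 * rA.2.1 ∧ pairSum Q Q fA = 36 * rA.2.2)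
    (hG : pairSum P P fG = 36 * rG.1 ∧ pairSum P Q fG = 36 * rG.2.1 ∧ pairSum Q Q fG = 36 * rG.2.2)
    (hB : pairSum P P fB = 36 * rB.1 ∧ pairSum P Q fB = 36 * rB.2.1 ∧ pairSum Q Q fB = 36 * rB.2.2)
    (hD : pairSum P P fD = 36 * rD.1 ∧ pairSum P Q fD = 36 * rD.2.1 ∧ pairSum Q Q fD = 36 * rD.2.2)
    (hn : Nice ⟨rA.1, rA.2.1, rA.2.2⟩ ⟨rG.1, rG.2.1, rG.2.2⟩ ⟨rB.1, rB.2.1, rB.2.2⟩
      ⟨rD.1, rD.2.1, rD.2.2⟩) :
    ∃ χ : IrrCharacter G, χ ≠ Chars.trivialIrr G ∧ (χ : G → ℂ) 1 = 1 := by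
  obtain ⟨cA, cG, cB, cD, -⟩ := vc_all
  have vA := fun w hw => (vanish w hw).1
  have vG := fun w hw => (vanish w hw).2.1
  have vB := fun w hw => (vanish w hw).2.2.1
  have vD := fun w hw => (vanish w hw).2.2.2
  obtain ⟨g1, g2, g3, g4, g5, g6, g7, g8, g9, g10⟩ := grams
  obtain ⟨s1, s2, s3, s4⟩ := sums
  have hd : irrDeg (Chars.trivialIrr G) = 1 := by
    have := irrDeg_spec (Chars.trivialIrr G)
    rw [Chars.trivialIrr_apply] at this
    exact_mod_cast this.symm
  have F : Frame (irrDeg (G := G)) (point s t) (36 * N.index : ℚ) (Chars.trivialIrr G)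
      (coeff (vc_lift e cA)) (coeff (vc_lift e cG)) (coeff (vc_lift e cB)) (coeff (vc_lift e cD))
      ⟨rA.1, rA.2.1, rA.2.2⟩ ⟨rG.1, rG.2.1, rG.2.2⟩ ⟨rB.1, rB.2.1, rB.2.2⟩
      ⟨rD.1, rD.2.1, rD.2.2⟩ :=
    { deg_o := hd
      A_o := coeff_lift_trivial cA s1
      G_o := coeff_lift_trivial cG s2
      B_o := coeff_lift_trivial cB s3
      D_o := coeff_lift_trivial cD s4
      vA := C.vec cA vA g1 hs ht hsP htQ hA.1 hA.2.1 hA.2.2 hn.detA
      vG := C.vec cG vG g2 hs ht hsP htQ hG.1 hG.2.1 hG.2.2 hn.detG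
      vB := C.vec cB vB g3 hs ht hsP htQ hB.1 hB.2.1 hB.2.2 hn.detB
      vD := C.vec cD vD g4 hs ht hsP htQ hD.1 hD.2.1 hD.2.2 hn.detD
      AG := C.idot_lift cA cG vA vG g5
      AB := C.idot_lift cA cB vA vB g6
      AD := C.idot_lift cA cD vA vD g7
      GB := C.idot_lift cG cB vG vB g8
      GD := C.idot_lift cG cD vG vD g9
      BD := C.idot_lift cB cD vB vD g10
      cong := congruence e
      nice := hn }
  obtain ⟨χ, hχ, h1⟩ := F.exists_linear
  refine ⟨χ, hχ, ?_⟩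
  have h0 := irrDeg_nonneg χ
  have : irrDeg χ = 1 := by
    rcases Int.eq_one_or_neg_one_of_mul_eq_one h1 with h | h <;> omega
  rw [irrDeg_spec, this, Int.cast_one]

theorem exists_linear :
    ∃ χ : IrrCharacter G, χ ≠ Chars.trivialIrr G ∧ (χ : G → ℂ) 1 = 1 := by
  classical
  obtain ⟨a, ha⟩ := e.surjective tA
  obtain ⟨b, hb⟩ := e.surjective tB
  obtain ⟨c, hc⟩ := e.surjective tT
  obtain ⟨-, -, ⟨a1, a2, -, -, b1, b2⟩⟩ := z_facts
  have hsq : ∀ n : N, e n * e n = 1 → (n : G) * n = 1 := fun n hn =>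
    congrArg Subtype.val (e.injective (show e (n * n) = e 1 by rw [map_mul, map_one]; exact hn) :
      n * n = 1)
  have ha2 := hsq a (by rw [ha]; exact a2)
  have hb2 := hsq b (by rw [hb]; exact b2)
  have hne : ∀ n : N, e n ≠ 1 → (n : G) ≠ 1 := fun n hn h => hn (by
    rw [show n = 1 from Subtype.ext h, map_one])
  have hconj : ∀ (n m : N) (γ : W), γ * e m = e n * γ → IsConj (m : G) n := by
    intro n m γ h
    obtain ⟨d, rfl⟩ := e.surjective γ
    rw [← map_mul, ← map_mul] at h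
    exact isConj_iff.2 ⟨d, mul_inv_eq_iff_eq_mul.2 (congrArg Subtype.val (e.injective h))⟩
  have hcases : ∀ (s : N) (n : N), (s : G) * s = 1 → (s : G) ≠ 1 → IsConj (s : G) n →
      (e n ∈ clA ∧ IsConj (a : G) n) ∨ (e n ∈ clT ∧ IsConj (c : G) n) ∨
        (e n ∈ clB ∧ IsConj (b : G) n) := by
    intro s n s2 s1 h
    have n1 : e n ≠ 1 := fun hh => Higman3.Model.ne_one_of_isConj s1 h (by
      rw [show n = 1 from e.injective (hh.trans (map_one e).symm)]; rfl)
    have n2 : e n * e n = 1 := by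
      rw [← map_mul, show n * n = 1 from Subtype.ext (Higman3.Model.sq_eq_one_of_isConj s2 h),
        map_one]
    rcases invol_cases _ n1 n2 with ⟨hm, γ, hγ⟩ | ⟨hm, γ, hγ⟩ | ⟨hm, γ, hγ⟩
    · exact Or.inl ⟨hm, hconj n a γ (by rw [ha]; exact hγ)⟩
    · exact Or.inr (Or.inl ⟨hm, hconj n c γ (by rw [hc]; exact hγ)⟩)
    · exact Or.inr (Or.inr ⟨hm, hconj n b γ (by rw [hb]; exact hγ)⟩)
  have hback : (∀ n : N, e n ∈ clA → IsConj (a : G) n) ∧ (∀ n : N, e n ∈ clT → IsConj (c : G) n) ∧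
      (∀ n : N, e n ∈ clB → IsConj (b : G) n) := by
    have hd : ∀ w : W, (w ∈ clA → w ≠ 1 ∧ w * w = 1 ∧ w ∉ clT ∧ w ∉ clB) ∧
        (w ∈ clT → w ≠ 1 ∧ w * w = 1 ∧ w ∉ clA ∧ w ∉ clB) ∧
        (w ∈ clB → w ≠ 1 ∧ w * w = 1 ∧ w ∉ clA ∧ w ∉ clT) := by decide +kernel
    refine ⟨fun n hn => ?_, fun n hn => ?_, fun n hn => ?_⟩
    · obtain ⟨h1, h2, h3, h4⟩ := (hd _).1 hn
      rcases hcases n n (hsq n h2) (hne n h1) (IsConj.refl _) with h | h | h
      exacts [h.2, absurd h.1 h3, absurd h.1 h4]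
    · obtain ⟨h1, h2, h3, h4⟩ := (hd _).2.1 hn
      rcases hcases n n (hsq n h2) (hne n h1) (IsConj.refl _) with h | h | h
      exacts [absurd h.1 h3, h.2, absurd h.1 h4]
    · obtain ⟨h1, h2, h3, h4⟩ := (hd _).2.2 hn
      rcases hcases n n (hsq n h2) (hne n h1) (IsConj.refl _) with h | h | h
      exacts [absurd h.1 h3, absurd h.1 h4, h.2]
  obtain ⟨backA, backT, backB⟩ := hback
  have hab : ¬IsConj (a : G) b := C.not_conj ha hb
  have hA1 := hne a (by rw [ha]; exact a1)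
  have hB1 := hne b (by rw [hb]; exact b1)
  by_cases hca : IsConj (a : G) c
  · refine linear_of C ha2 hb2 (P := clAT) (Q := clB) (fun n => ?_) (fun n => ?_)
      (rA := (11, 3, 1)) (rG := (16, 0, 2)) (rB := (11, -3, 1)) (rD := (4, 0, 2))
      pairs_fusedA.1 pairs_fusedA.2.1 pairs_fusedA.2.2.1 pairs_fusedA.2.2.2
      (by simpa using nice_fusedA)
    · rw [unions.1]
      refine ⟨fun h => h.elim (backA n) fun h => hca.trans (backT n h), fun h => ?_⟩
      rcases hcases a n ha2 hA1 h with h' | h' | h'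
      exacts [Or.inl h'.1, Or.inr h'.1, absurd (h.trans h'.2.symm) hab]
    · refine ⟨backB n, fun h => ?_⟩
      rcases hcases b n hb2 hB1 h with h' | h' | h'
      exacts [absurd (h'.2.trans h.symm) hab, absurd ((hca.trans h'.2).trans h.symm) hab, h'.1]
  by_cases hcb : IsConj (b : G) c
  · refine linear_of C ha2 hb2 (P := clA) (Q := clBT) (fun n => ?_) (fun n => ?_)
      (rA := (2, 0, 16)) (rG := (1, 3, 11)) (rB := (2, 0, 4)) (rD := (1, -3, 11))
      pairs_fusedB.1 pairs_fusedB.2.1 pairs_fusedB.2.2.1 pairs_fusedB.2.2.2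
      (by simpa using nice_fusedB)
    · refine ⟨backA n, fun h => ?_⟩
      rcases hcases a n ha2 hA1 h with h' | h' | h'
      exacts [h'.1, absurd (h.trans (hcb.trans h'.2).symm) hab, absurd (h.trans h'.2.symm) hab]
    · rw [unions.2]
      refine ⟨fun h => h.elim (backB n) fun h => hcb.trans (backT n h), fun h => ?_⟩
      rcases hcases b n hb2 hB1 h with h' | h' | h'
      exacts [absurd (h'.2.trans h.symm) hab, Or.inr h'.1, Or.inl h'.1]
  · refine linear_of C ha2 hb2 (P := clA) (Q := clB) (fun n => ?_) (fun n => ?_)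
      (rA := (2, 0, 1)) (rG := (1, 0, 2)) (rB := (2, 0, 1)) (rD := (1, 0, 2))
      pairs_plain.1 pairs_plain.2.1 pairs_plain.2.2.1 pairs_plain.2.2.2
      (by simpa using nice_plain)
    · refine ⟨backA n, fun h => ?_⟩
      rcases hcases a n ha2 hA1 h with h' | h' | h'
      exacts [h'.1, absurd (h.trans h'.2.symm) hca, absurd (h.trans h'.2.symm) hab]
    · refine ⟨backB n, fun h => ?_⟩
      rcases hcases b n hb2 hB1 h with h' | h' | h'
      exacts [absurd (h'.2.trans h.symm) hab, absurd (h.trans h'.2.symm) hcb, h'.1]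

omit [Fintype N] in
theorem not_simple : ¬IsSimpleGroup G := by
  intro hG
  classical
  haveI := Fintype.ofFinite N
  obtain ⟨χ, hne, h1⟩ := exists_linear C
  obtain ⟨φ, hφ⟩ := Chars.exists_hom_of_degree_one (Chars.irr_isCharacter χ) h1
  have hker : φ.ker = ⊥ := by
    refine ((MonoidHom.normal_ker φ).eq_bot_or_eq_top).resolve_right fun h => hne ?_
    refine Subtype.ext (funext fun g => ?_)
    rw [hφ, Chars.trivialIrr_apply]
    simp only [MonoidHom.mem_ker.1 (h ▸ Subgroup.mem_top g : g ∈ φ.ker), Units.val_one]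
  have hcomm : ∀ x y : G, x * y = y * x := fun x y =>
    (MonoidHom.ker_eq_bot_iff φ).1 hker (by rw [map_mul, map_mul, mul_comm])
  obtain ⟨x, hxM, hx1⟩ : ∃ x ∈ (M : Subgroup G), x ≠ 1 := by
    by_contra hno
    push Not at hno
    have := C.nine.card
    rw [(Subgroup.eq_bot_iff_forall _).2 hno, Subgroup.card_bot] at this
    omega
  have hn : (Subgroup.zpowers x).Normal := ⟨fun n hn g => by
    rw [hcomm g n, mul_inv_cancel_right]; exact hn⟩
  rcases hn.eq_bot_or_eq_top with h | h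
  · exact hx1 (Subgroup.zpowers_eq_bot.1 h)
  · haveI : Fact (Nat.Prime 3) := ⟨Nat.prime_three⟩
    have hle := Subgroup.card_dvd_of_le (le_top : (M : Subgroup G) ≤ ⊤)
    rw [← h, C.nine.card, Nat.card_zpowers, orderOf_eq_prime (C.nine.cube x hxM) hx1] at hle
    have := Nat.le_of_dvd (by norm_num) hle
    omega

end Ctx

end Cfsg.Agent.Lib.Higman9
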